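import Mathlib
import Cfsg.Statements.S1403
import Cfsg.Statements.S1404
import Cfsg.Statements.S1405
import Cfsg.Agent.Lib.Helper13.BG.Tools
import Cfsg.Agent.Lib.Helper66.BG.S1350Core
import Cfsg.Agent.Lib.Helper46.BG.S1414Core
import Cfsg.Agent.Lib.Helper2.BG.S1424Core
import Cfsg.Agent.Lib.Helper77.CyclicAct

/-!
Bender–Glauberman, towards Corollary 13.3 (S1427), part A (helper13): disjointness of `σ`-sets,
cyclic Sylow subgroups, and the choice of a maximal subgroup `H ⊇ N_G(X)`.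
-/

set_option autoImplicit false
set_option linter.style.haveILetI false

namespace Cfsg.Agent.Lib.Helper13.BG

open Cfsg Cfsg.Agent.Lib.Helper46 Cfsg.Agent.Lib.Helper35.BG

variable {G : Type*} [Group G]

theorem coatom_map_conj13 {M : Subgroup G} (hM : IsCoatom M) (g : G) :
    IsCoatom (M.map (MulAut.conj g).toMonoidHom) :=
  ((MulAut.conj g).mapSubgroup.isCoatom_iff M).mpr hM

/-- A normal subgroup of `↥H` gives a subgroup of `G` normalized by `H`. -/
theorem le_normalizer_map_subtype {H : Subgroup G} (K : Subgroup ↥H) [hK : K.Normal] :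
    H ≤ Subgroup.normalizer ((K.map H.subtype : Subgroup G) : Set G) := by
  have key : ∀ h ∈ H, ∀ x ∈ K.map H.subtype, h * x * h⁻¹ ∈ K.map H.subtype := by
    rintro h hh _ ⟨k, hk, rfl⟩
    exact ⟨⟨h, hh⟩ * k * ⟨h, hh⟩⁻¹, hK.conj_mem k hk ⟨h, hh⟩, rfl⟩
  intro h hh
  rw [Subgroup.mem_normalizer_iff]
  intro x
  refine ⟨fun hx => key h hh x hx, fun hx => ?_⟩
  have h1 := key h⁻¹ (H.inv_mem hh) _ hx
  have e : h⁻¹ * (h * x * h⁻¹) * h⁻¹⁻¹ = x := by group
  rwa [e] at h1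

/-- A maximal subgroup is the normalizer of each of its nontrivial normal subgroups. -/
theorem normalizer_eq_of_coatom (hG : IsMinSimpleOddOrder G) {H R : Subgroup G} (hH : IsCoatom H)
    (hR1 : R ≠ ⊥) (hRH : R ≤ H) (hN : H ≤ Subgroup.normalizer (R : Set G)) :
    Subgroup.normalizer (R : Set G) = H := by
  have hRtop : R ≠ ⊤ := fun h => hH.1 (top_le_iff.mp (h ▸ hRH))
  have hne := normalizer_ne_top hG hR1 hRtop
  by_contra hcon
  exact hne (hH.2 _ (lt_of_le_of_ne hN (Ne.symm hcon)))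

theorem sylIn_ne_bot [Finite G] {r : ℕ} [Fact r.Prime] {R H : Subgroup G} (hR : IsSylowIn r R H)
    (hr : r ∣ Nat.card H) : R ≠ ⊥ := by
  intro h
  have h1 := hR.2
  rw [h, Subgroup.card_bot] at h1
  have hrp : r.Prime := Fact.out
  have hpos : 0 < (Nat.card H).factorization r :=
    hrp.factorization_pos_of_dvd Nat.card_pos.ne' hr
  have : 1 < r ^ (Nat.card H).factorization r := Nat.one_lt_pow hpos.ne' hrp.one_lt
  omega

theorem exists_sylIn [Finite G] (r : ℕ) [Fact r.Prime] (H : Subgroup G) :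
    ∃ R : Subgroup G, IsSylowIn r R H := by
  obtain ⟨R, hR, -⟩ := exists_isSylowIn_ge (p := r) (Q := (⊥ : Subgroup G)) (H := H)
    IsPGroup.of_bot bot_le
  exact ⟨R, hR⟩

/-- `α(H) ∩ σ(M) = ∅` for non-conjugate maximal subgroups `M`, `H`. -/
theorem alpha_sigma_disjoint [Finite G] (hG : IsMinSimpleOddOrder G)
    (h1403 : type_of% (@Cfsg.CfsgFrozen.S1403 G _ _ hG))
    {M H : Subgroup G} (hM : IsCoatom M) (hH : IsCoatom H)
    (hnc : ∀ g : G, H ≠ M.map (MulAut.conj g).toMonoidHom)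
    {r : ℕ} (hrα : r ∈ alpha H) (hrσ : r ∈ sigma M) : False := by
  haveI : Fact r.Prime := ⟨hrα.1⟩
  have hrp : r.Prime := hrα.1
  obtain ⟨R, hR⟩ := exists_sylIn r H
  have hRrank : ¬ PRankLE r 2 R := fun h => hrα.2 (pRankLE_of_isSylowIn hR h)
  have hRtop : R ≠ ⊤ := fun h => hH.1 (top_le_iff.mp (h ▸ hR.1))
  have hU := h1403 R hRtop
    (not_rankLE_of_not_pRankLE (fun h => hRrank (pRankLE_mono hrp.pos (by norm_num) h)))
    (Or.inl (not_rankLE_of_not_pRankLE hRrank))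
  obtain ⟨RM, hRM⟩ := exists_sylIn r M
  have hRMtop := isSylowIn_top_of_sigma hrσ hRM
  obtain ⟨R', hR', hRR'⟩ := exists_isSylowIn_ge (sylIn_isPGroup hR) (le_top : R ≤ ⊤)
  obtain ⟨g, -, rfl⟩ := hRMtop.exists_conj hR'
  have h1 : R ≤ M.map (MulAut.conj g).toMonoidHom := hRR'.trans (Subgroup.map_mono hRM.1)
  obtain ⟨L, -, hLu⟩ := hU
  have e1 := hLu H ⟨hH, hR.1⟩
  have e2 := hLu _ ⟨coatom_map_conj13 hM g, h1⟩
  exact hnc g (e1.trans e2.symm)

/-- If `H_σ` is nilpotent, then `σ(M) ∩ σ(H) = ∅` for non-conjugate maximal subgroups. -/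
theorem sigma_disjoint_of_nilpotent [Finite G] (hG : IsMinSimpleOddOrder G)
    (h1404 : type_of% (@Cfsg.CfsgFrozen.S1404 G _ _ hG))
    (h1405 : type_of% (@Cfsg.CfsgFrozen.S1405 G _ _ hG))
    {M H : Subgroup G} (hM : IsCoatom M) (hH : IsCoatom H)
    (hnc : ∀ g : G, H ≠ M.map (MulAut.conj g).toMonoidHom)
    (hnil : Group.IsNilpotent (sigmaCore H))
    {r : ℕ} (hrH : r ∈ sigma H) (hrM : r ∈ sigma M) : False := by
  haveI : Fact r.Prime := ⟨hrH.1⟩
  have P : Sylow r ↥H := default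
  have hle := Cfsg.Agent.Lib.Helper66.BG.sylow_le_piCore_sigma hG h1404 h1405 H hH r hrH P
  have hnil' : Group.IsNilpotent ↥(piCore (sigma H) ↥H) := by
    have e : ↥(piCore (sigma H) ↥H) ≃* ↥(sigmaCore H) :=
      (piCore (sigma H) ↥H).equivMapOfInjective H.subtype H.subtype_injective
    exact (Group.isNilpotent_congr e).mpr hnil
  haveI hPn : (P : Subgroup ↥H).Normal :=
    Cfsg.Agent.Lib.Helper66.BG.sylow_normal_of_le_normal_nilpotent P _ hnil' hle
  have hR : IsSylowIn r ((P : Subgroup ↥H).map H.subtype) H := isSylowIn_of_sylow P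
  obtain ⟨R, hRdef⟩ : ∃ R : Subgroup G, R = (P : Subgroup ↥H).map H.subtype := ⟨_, rfl⟩
  rw [← hRdef] at hR
  have hHN : H ≤ Subgroup.normalizer (R : Set G) := by
    rw [hRdef]; exact le_normalizer_map_subtype _
  have hNR : Subgroup.normalizer (R : Set G) = H :=
    normalizer_eq_of_coatom hG hH (sylIn_ne_bot hR hrH.2.1) hR.1 hHN
  obtain ⟨RM, hRM⟩ := exists_sylIn r M
  have hRMtop := isSylowIn_top_of_sigma hrM hRM
  have hRtop := isSylowIn_top_of_sigma hrH hR
  obtain ⟨g, -, rfl⟩ := hRtop.exists_conj hRMtop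
  have h1 := normalizer_le_of_sigma hrM hRM
  rw [normalizer_map_conj, hNR] at h1
  have h2 : H.map (MulAut.conj g).toMonoidHom = M := by
    by_contra hcon
    exact hM.1 ((coatom_map_conj13 hH g).2 _ (lt_of_le_of_ne h1 hcon))
  have h4 : H = M.map (MulAut.conj g⁻¹).toMonoidHom := by
    rw [← h2, map_conj_mul, inv_mul_cancel, map_conj_one]
  exact hnc g⁻¹ h4

/-- A cyclic `p`-group has `p`-rank at most one. -/
theorem pRankLE_one_of_isCyclic {p : ℕ} [Fact p.Prime] {X : Type*} [Group X] [Finite X]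
    (hc : IsCyclic X) : PRankLE p 1 X := by
  intro A _ hexp
  haveI : IsCyclic A := Subgroup.isCyclic A
  obtain ⟨g, hg⟩ := IsCyclic.exists_generator (α := A)
  have h1 : orderOf g = Nat.card A := orderOf_eq_card_of_forall_mem_zpowers hg
  have h2 : g ^ p = 1 := Subtype.ext (hexp g g.2)
  have h3 : orderOf g ∣ p := orderOf_dvd_of_pow_eq_one h2
  rw [← h1, pow_one]
  exact Nat.le_of_dvd (Fact.out : p.Prime).pos h3

/-- If a Sylow `p`-subgroup of `M` is cyclic then `M` has `p`-rank at most one. -/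
theorem pRankLE_one_of_cyclic_sylow [Finite G] {p : ℕ} [Fact p.Prime] {S M : Subgroup G}
    (hS : IsSylowIn p S M) (hc : IsCyclic S) : PRankLE p 1 M :=
  pRankLE_of_isSylowIn hS (pRankLE_one_of_isCyclic hc)

/-- An elementary abelian subgroup of order `p ^ 2` cannot lie in a subgroup of `p`-rank one. -/
theorem not_le_of_pRankLE_one {p : ℕ} [Fact p.Prime] {A M : Subgroup G}
    (hr : PRankLE p 1 M) (hA : IsElementaryAbelian p A) (hA2 : Nat.card A = p ^ 2) :
    ¬ A ≤ M := by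
  intro hAM
  rw [Cfsg.Agent.Lib.Helper24.pRankLE_subgroup_iff] at hr
  have h1 := hr A hAM (isMulCommutative_subgroup_iff.mp hA.1) hA.2
  rw [hA2, pow_one] at h1
  have hp := (Fact.out : p.Prime).two_le
  nlinarith

/-- If a subgroup contains an elementary abelian subgroup of order `p ^ 2`, its `p`-rank is not
at most one. -/
theorem not_pRankLE_one_of_le {p : ℕ} [Fact p.Prime] {A M : Subgroup G}
    (hA : IsElementaryAbelian p A) (hA2 : Nat.card A = p ^ 2) (hAM : A ≤ M) :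
    ¬ PRankLE p 1 M := fun hr => not_le_of_pRankLE_one hr hA hA2 hAM

/-- Odd primes. -/
theorem prime_ne_two13 [Finite G] (hG : IsMinSimpleOddOrder G) {p : ℕ} {X : Subgroup G}
    (hp : p ∣ Nat.card X) : p ≠ 2 := by
  rintro rfl
  have h4 : 2 ∣ Nat.card G := hp.trans (Subgroup.card_subgroup_dvd_card X)
  exact (Nat.not_even_iff_odd.mpr hG.1) (even_iff_two_dvd.mpr h4)

/-- A `p`-subgroup of `p`-rank at most one (p odd) is cyclic. -/
theorem isCyclic_of_pRankLE_one [Finite G] {p : ℕ} [Fact p.Prime] (hp2 : p ≠ 2) {S : Subgroup G}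
    (hS : IsPGroup p S) (hr : PRankLE p 1 S) : IsCyclic S := by
  by_contra hnc
  obtain ⟨A, hAS, hA, hA2⟩ := Cfsg.Agent.Lib.Helper2.BG.exists_ea_sq_of_not_isCyclic hp2 hS hnc
  exact not_le_of_pRankLE_one hr hA hA2 hAS

/-- If `p ∤ |M_σ|`-type: membership of `σ` from a Sylow subgroup with normalizer inside. -/
theorem mem_sigma_of_sylIn [Finite G] {p : ℕ} [Fact p.Prime] {S M : Subgroup G}
    (hS : IsSylowIn p S M) (hS1 : S ≠ ⊥) (hN : Subgroup.normalizer (S : Set G) ≤ M) :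
    p ∈ sigma M := by
  refine ⟨Fact.out, ?_, ?_⟩
  · have h1 : p ∣ Nat.card S := Cfsg.Agent.Lib.Helper67.BG.dvd_card_of_isPGroup_ne_bot
      (sylIn_isPGroup hS) hS1
    exact h1.trans (Subgroup.card_dvd_of_le hS.1)
  · obtain ⟨P, hP⟩ := hS.exists_sylow
    exact ⟨P, by rw [hP]; exact hN⟩

end Cfsg.Agent.Lib.Helper13.BG
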