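import Mathlib
import Cfsg.Agent.Lib.Helper13.BG.S1427A
import Cfsg.Agent.Lib.Helper54.Stability

/-!
Bender–Glauberman, towards Corollary 13.3 (S1427), part B (helper13): the case `p ∈ σ(H)`.
-/

set_option autoImplicit false
set_option linter.style.haveILetI false

namespace Cfsg.Agent.Lib.Helper13.BG

open Cfsg Cfsg.Agent.Lib.Helper46 Cfsg.Agent.Lib.Helper35.BG
open scoped commutatorElement

variable {G : Type*} [Group G]

/-- Conjugation by an element of `M` preserves `M_σ`. -/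
theorem conj_mem_sigmaCore {M : Subgroup G} {m x : G} (hm : m ∈ M) (hx : x ∈ sigmaCore M) :
    m * x * m⁻¹ ∈ sigmaCore M :=
  (Subgroup.mem_normalizer_iff.mp (Cfsg.Agent.Lib.Helper67.BG.sigmaCore_normalizer M hm) x).mp hx

/-- The commutator `c s c⁻¹ s⁻¹` of `c ∈ M_σ` with `s ∈ M` lies in `M_σ`. -/
theorem comm_mem_sigmaCore {M : Subgroup G} {c s : G} (hc : c ∈ sigmaCore M) (hs : s ∈ M) :
    c * s * c⁻¹ * s⁻¹ ∈ sigmaCore M := by
  have h1 : s * c⁻¹ * s⁻¹ ∈ sigmaCore M := conj_mem_sigmaCore hs ((sigmaCore M).inv_mem hc)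
  have e : c * s * c⁻¹ * s⁻¹ = c * (s * c⁻¹ * s⁻¹) := by group
  rw [e]
  exact (sigmaCore M).mul_mem hc h1

/-- Elements of `M_σ` have order prime to `p ∉ σ(M)`. -/
theorem orderOf_coprime_of_mem_sigmaCore [Finite G] {M : Subgroup G} {p : ℕ} [Fact p.Prime]
    (hp : p ∉ sigma M) {y : G} (hy : y ∈ sigmaCore M) : (orderOf y).Coprime p := by
  have hpp : p.Prime := Fact.out
  rw [Nat.coprime_comm, hpp.coprime_iff_not_dvd]
  intro hdvd
  apply hp
  apply Cfsg.Agent.Lib.Helper67.BG.sigmaCore_isPi M p hpp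
  exact hdvd.trans (Subgroup.orderOf_dvd_natCard _ hy)

/-- A prime dividing the order of an element of `M_σ` lies in `σ(M)`. -/
theorem mem_sigma_of_dvd_orderOf [Finite G] {M : Subgroup G} {r : ℕ} (hr : r.Prime) {y : G}
    (hy : y ∈ sigmaCore M) (hdvd : r ∣ orderOf y) : r ∈ sigma M :=
  Cfsg.Agent.Lib.Helper67.BG.sigmaCore_isPi M r hr
    (hdvd.trans (Subgroup.orderOf_dvd_natCard _ hy))

/-- `zpowers s` is a `p`-group when `s` is a `p`-element. -/
theorem isPGroup_zpowers13 {p : ℕ} {s : G} {k : ℕ} (hs : s ^ p ^ k = 1) :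
    IsPGroup p (Subgroup.zpowers s) := by
  rintro ⟨x, hx⟩
  obtain ⟨i, rfl⟩ := Subgroup.mem_zpowers_iff.mp hx
  refine ⟨k, Subtype.ext ?_⟩
  show (s ^ i) ^ p ^ k = 1
  rw [← zpow_natCast, ← zpow_mul, mul_comm, zpow_mul, zpow_natCast, hs, one_zpow]

/-- `(commutator ↥L).map L.subtype = ⁅L, L⁆`. -/
theorem map_commutator_subtype (L : Subgroup G) :
    (commutator ↥L).map L.subtype = ⁅L, L⁆ := by
  rw [commutator_def, Subgroup.map_commutator, ← MonoidHom.range_eq_map, Subgroup.range_subtype]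

/-- If a `p`-element `s` commutes with `y = c s c⁻¹ s⁻¹` of order prime to `p`, then `c` and `s`
commute. -/
theorem comm_of_comm_commutator {p : ℕ} {c s : G} {k : ℕ} (hs : s ^ p ^ k = 1)
    (hy : (orderOf (c * s * c⁻¹ * s⁻¹)).Coprime p)
    (hcomm : (c * s * c⁻¹ * s⁻¹) * s = s * (c * s * c⁻¹ * s⁻¹)) : c * s = s * c := by
  obtain ⟨y, hydef⟩ : ∃ y : G, y = c * s * c⁻¹ * s⁻¹ := ⟨_, rfl⟩
  rw [← hydef] at hy hcomm
  have h1 : c * s * c⁻¹ = y * s := by rw [hydef]; group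
  have h2 : (c * s * c⁻¹) ^ p ^ k = 1 := by
    rw [conj_pow, hs]; group
  rw [h1, (show Commute y s from hcomm).mul_pow, hs, mul_one] at h2
  have h3 : y = 1 := Cfsg.Agent.Lib.Helper54.eq_one_of_coprime_of_pow_eq_one hy h2
  rw [hydef] at h3
  have : c * s = (c * s * c⁻¹ * s⁻¹) * (s * c) := by group
  rw [this, h3, one_mul]

/-- In a group whose derived subgroup has nilpotent image modulo `K`, two elements of the
derived subgroup with coprime orders commute modulo `K`. -/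
theorem comm_mod_of_nilpotent_image {X : Type*} [Group X] (K : Subgroup X) [K.Normal]
    (hnil : Group.IsNilpotent ↥((commutator X).map (QuotientGroup.mk' K))) {y s : X}
    (hy : y ∈ commutator X) (hs : s ∈ commutator X) (hcop : (orderOf y).Coprime (orderOf s)) :
    y * s * y⁻¹ * s⁻¹ ∈ K := by
  haveI := hnil
  have hou : orderOf (⟨QuotientGroup.mk' K y, Subgroup.mem_map_of_mem _ hy⟩ :
      ↥((commutator X).map (QuotientGroup.mk' K))) ∣ orderOf y := by
    rw [← Subgroup.orderOf_coe]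
    exact orderOf_map_dvd _ y
  have hov : orderOf (⟨QuotientGroup.mk' K s, Subgroup.mem_map_of_mem _ hs⟩ :
      ↥((commutator X).map (QuotientGroup.mk' K))) ∣ orderOf s := by
    rw [← Subgroup.orderOf_coe]
    exact orderOf_map_dvd _ s
  have hcomm := Cfsg.Agent.Lib.Helper54.commute_of_coprime_of_nilpotent
    ↥((commutator X).map (QuotientGroup.mk' K)) _ _
    (Nat.Coprime.coprime_dvd_left hou (Nat.Coprime.coprime_dvd_right hov hcop))
  have hcomm' : QuotientGroup.mk' K y * QuotientGroup.mk' K s =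
      QuotientGroup.mk' K s * QuotientGroup.mk' K y := congrArg Subtype.val hcomm.eq
  rw [← QuotientGroup.eq_one_iff, ← QuotientGroup.mk'_apply]
  rw [map_mul, map_mul, map_mul, map_inv, map_inv, hcomm']
  group

/-- The case `p ∈ σ(H)`: elements of `M_σ ∩ H` commute with `p`-elements of `M ∩ H`. -/
theorem comm_of_sigma_case [Finite G] (hG : IsMinSimpleOddOrder G)
    (h1403 : type_of% (@Cfsg.CfsgFrozen.S1403 G _ _ hG))
    (h1404 : type_of% (@Cfsg.CfsgFrozen.S1404 G _ _ hG))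
    (h1405 : type_of% (@Cfsg.CfsgFrozen.S1405 G _ _ hG))
    {M H : Subgroup G} (hM : IsCoatom M) (hH : IsCoatom H)
    (hnc : ∀ g : G, H ≠ M.map (MulAut.conj g).toMonoidHom)
    {p : ℕ} [Fact p.Prime] (hpM : p ∉ sigma M) (hpH : p ∈ sigma H)
    {c s : G} (hc : c ∈ sigmaCore M) (hcH : c ∈ H) (hsM : s ∈ M) (hsH : s ∈ H)
    {k : ℕ} (hs : s ^ p ^ k = 1) : c * s = s * c := by
  have hpp : p.Prime := Fact.out
  obtain ⟨y, hydef⟩ : ∃ y : G, y = c * s * c⁻¹ * s⁻¹ := ⟨_, rfl⟩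
  have hyσ : y ∈ sigmaCore M := by rw [hydef]; exact comm_mem_sigmaCore hc hsM
  have hyH : y ∈ H := by
    rw [hydef]
    exact H.mul_mem (H.mul_mem (H.mul_mem hcH hsH) (H.inv_mem hcH)) (H.inv_mem hsH)
  obtain ⟨z, hzdef⟩ : ∃ z : G, z = y * s * y⁻¹ * s⁻¹ := ⟨_, rfl⟩
  have hzσ : z ∈ sigmaCore M := by rw [hzdef]; exact comm_mem_sigmaCore hyσ hsM
  have hycop : (orderOf y).Coprime p := orderOf_coprime_of_mem_sigmaCore hpM hyσ
  -- it suffices to show z = 1
  suffices hz1 : z = 1 by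
    apply comm_of_comm_commutator hs (hydef ▸ hycop)
    rw [← hydef]
    have : y * s = (y * s * y⁻¹ * s⁻¹) * (s * y) := by group
    rw [this, ← hzdef, hz1, one_mul]
  by_contra hz1
  -- elements of ↥H
  have hy'comm : (⟨y, hyH⟩ : ↥H) ∈ commutator ↥H := by
    have e : (⟨y, hyH⟩ : ↥H) = ⁅(⟨c, hcH⟩ : ↥H), (⟨s, hsH⟩ : ↥H)⁆ := by
      apply Subtype.ext
      rw [commutatorElement_def]
      simp [hydef]
    rw [e, commutator_def]
    exact Subgroup.commutator_mem_commutator (Subgroup.mem_top _) (Subgroup.mem_top _)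
  have hs'pow : (⟨s, hsH⟩ : ↥H) ^ p ^ k = 1 := Subtype.ext (by simpa using hs)
  have hs'comm : (⟨s, hsH⟩ : ↥H) ∈ commutator ↥H := by
    obtain ⟨P, hP⟩ := (isPGroup_zpowers13 hs'pow).exists_le_sylow
    exact Cfsg.Agent.Lib.Helper66.BG.sylow_le_commutator_of_sigma hG h1404 H hH p hpH P
      (hP (Subgroup.mem_zpowers _))
  obtain ⟨-, -, -, -, hnil⟩ := h1405 H hH
  have hcop : (orderOf (⟨y, hyH⟩ : ↥H)).Coprime (orderOf (⟨s, hsH⟩ : ↥H)) := by
    have h1 : orderOf (⟨y, hyH⟩ : ↥H) = orderOf y := (Subgroup.orderOf_coe _).symm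
    have h2 : orderOf (⟨s, hsH⟩ : ↥H) ∣ p ^ k := orderOf_dvd_of_pow_eq_one hs'pow
    rw [h1]
    exact Nat.Coprime.coprime_dvd_right h2 (Nat.Coprime.pow_right k hycop)
  have hz'K := comm_mod_of_nilpotent_image (piCore (alpha H) ↥H) hnil hy'comm hs'comm hcop
  have hz'coe : (((⟨y, hyH⟩ : ↥H) * ⟨s, hsH⟩ * (⟨y, hyH⟩ : ↥H)⁻¹ * (⟨s, hsH⟩ : ↥H)⁻¹ : ↥H) : G)
      = z := by
    rw [hzdef]; simp
  -- a prime dividing the order of z
  have hoz : orderOf z ≠ 1 := fun h => hz1 (orderOf_eq_one_iff.mp h)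
  obtain ⟨r, hr, hrz⟩ := Nat.exists_prime_and_dvd hoz
  have hrσ : r ∈ sigma M := mem_sigma_of_dvd_orderOf hr hzσ hrz
  have hrα : r ∈ alpha H := by
    refine Cfsg.Agent.S3743.piCore_isPi (G := ↥H) (alpha H) r hr ?_
    rw [← hz'coe, Subgroup.orderOf_coe] at hrz
    exact hrz.trans (Subgroup.orderOf_dvd_natCard _ hz'K)
  exact alpha_sigma_disjoint hG h1403 hM hH hnc hrα hrσ

end Cfsg.Agent.Lib.Helper13.BG
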