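import Mathlib
import Cfsg.Statements.S1417
import Cfsg.Agent.Lib.Helper13.BG.S1427B
import Cfsg.Agent.Lib.Helper20.BG.S1408Core
import Cfsg.Agent.Lib.Helper1.HallLe

/-!
Bender–Glauberman, towards Corollary 13.3 (S1427), part C (helper13): for `p ∈ τ₂(H)` and a
`σ(H)'`-subgroup `W` of `H`, an elementary abelian subgroup of order `p ^ 2` centralized by the
`p`-elements of `W`.
-/

set_option autoImplicit false
set_option linter.style.haveILetI false

namespace Cfsg.Agent.Lib.Helper13.BG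

open Cfsg Cfsg.Agent.Lib.Helper46 Cfsg.Agent.Lib.Helper35.BG
open scoped commutatorElement

variable {G : Type*} [Group G]

theorem ea_map_conj {p : ℕ} {A : Subgroup G} (hA : IsElementaryAbelian p A) (g : G) :
    IsElementaryAbelian p (A.map (MulAut.conj g).toMonoidHom) := by
  refine ⟨isMulCommutative_map_conj hA.1 g, ?_⟩
  rintro _ ⟨a, ha, rfl⟩
  simp only [MulEquiv.coe_toMonoidHom, MulAut.conj_apply]
  rw [conj_pow, hA.2 a ha]; group

theorem isPGroup_of_ea13 {p : ℕ} {A : Subgroup G} (hA : IsElementaryAbelian p A) :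
    IsPGroup p A := by
  rintro ⟨a, ha⟩
  exact ⟨1, Subtype.ext (by simpa using hA.2 a ha)⟩

theorem exists_ea_centralized [Finite G] (hG : IsMinSimpleOddOrder G)
    (h1404 : type_of% (@Cfsg.CfsgFrozen.S1404 G _ _ hG))
    (h1405 : type_of% (@Cfsg.CfsgFrozen.S1405 G _ _ hG))
    (h1417 : type_of% (@Cfsg.CfsgFrozen.S1417 G _ _ hG))
    {H : Subgroup G} (hH : IsCoatom H) {p : ℕ} [Fact p.Prime] (hpH : p ∈ tau2 H)
    (W : Subgroup G) (hWH : W ≤ H)
    (hW : (Nat.card W).Coprime (Nat.card (sigmaCore H))) :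
    ∃ A₁ : Subgroup G, A₁ ≤ H ∧ IsElementaryAbelian p A₁ ∧ Nat.card A₁ = p ^ 2 ∧
      ∀ u ∈ W, ∀ k : ℕ, u ^ p ^ k = 1 → u ∈ Subgroup.centralizer (A₁ : Set G) := by
  classical
  have hpp : p.Prime := Fact.out
  obtain ⟨hp', hpσ, hr2, hr1⟩ := hpH
  obtain ⟨A₀, hA₀H, hA₀, hA₀card⟩ := Cfsg.Agent.Lib.Helper20.BG.exists_ea_sq H p hr2 hr1
  obtain ⟨-, hSylAb, hN, -, -, -⟩ :=
    h1417 H hH p ⟨hp', hpσ, hr2, hr1⟩ A₀ ⟨hA₀H, hA₀, hA₀card⟩
  have hHall := (Cfsg.Agent.Lib.Helper66.BG.s1350_core hG h1404 h1405 H hH).1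
  haveI : Group.IsSolvable ↥H := isSolvable_of_ne_top hG hH.1
  have hσH : sigmaCore H ≤ H := Cfsg.Agent.Lib.Helper67.BG.sigmaCore_le H
  have hKdef : (sigmaCore H).subgroupOf H = piCore (sigma H) ↥H := by
    unfold sigmaCore
    exact Subgroup.comap_map_eq_self_of_injective H.subtype_injective _
  have hcardK : Nat.card (piCore (sigma H) ↥H) = Nat.card (sigmaCore H) :=
    (Cfsg.Agent.Lib.Helper67.BG.card_sigmaCore H).symm
  have hidx : (piCore (sigma H) ↥H).index = (sigmaCore H).relIndex H :=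
    (Cfsg.Agent.Lib.Helper67.BG.relIndex_sigmaCore H).symm
  have hmn : ((piCore (sigma H) ↥H).index).Coprime (Nat.card (piCore (sigma H) ↥H)) := by
    by_contra hne
    obtain ⟨r, hr, hr1', hr2'⟩ := Nat.Prime.not_coprime_iff_dvd.mp hne
    have hrσ : r ∈ sigma H := Cfsg.Agent.S3743.piCore_isPi (G := ↥H) (sigma H) r hr hr2'
    exact hHall.2.2 r hr hrσ (hidx ▸ hr1')
  have hcardH : Nat.card ↥H =
      (piCore (sigma H) ↥H).index * Nat.card (piCore (sigma H) ↥H) :=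
    (Subgroup.index_mul_card _).symm
  have hW' : (Nat.card (W.subgroupOf H)).Coprime (Nat.card (piCore (sigma H) ↥H)) := by
    rw [hcardK, Nat.card_congr (Subgroup.subgroupOfEquivOfLe hWH).toEquiv]; exact hW
  obtain ⟨E', hE'card, hWE'⟩ :=
    Cfsg.Agent.Lib.Helper1.hall_le _ _ hcardH hmn (W.subgroupOf H) hW'
  obtain ⟨E, hEdef⟩ : ∃ E : Subgroup G, E = E'.map H.subtype := ⟨_, rfl⟩
  have hEH : E ≤ H := by rw [hEdef]; exact Subgroup.map_subtype_le _
  have hWE : W ≤ E := by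
    intro w hw
    rw [hEdef]
    exact ⟨⟨w, hWH hw⟩, hWE' (Subgroup.mem_subgroupOf.mpr hw), rfl⟩
  have hEcard : Nat.card E = (piCore (sigma H) ↥H).index := by
    rw [hEdef, Subgroup.card_map_of_injective H.subtype_injective, hE'card]
  have hEσ : E ⊓ sigmaCore H = ⊥ := by
    apply disjoint_iff.mp
    apply Subgroup.disjoint_of_coprime_natCard
    rw [hEcard, ← hcardK]; exact hmn
  -- the image of `N = H_σ A₀` in `H / H_σ`
  have hπN : ∀ x : G, ∀ hxH : x ∈ H, x ∈ sigmaCore H ⊔ A₀ →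
      QuotientGroup.mk' (piCore (sigma H) ↥H) ⟨x, hxH⟩ ∈
        (A₀.subgroupOf H).map (QuotientGroup.mk' (piCore (sigma H) ↥H)) := by
    intro x hxH hx
    have hxN' : (⟨x, hxH⟩ : ↥H) ∈ (sigmaCore H ⊔ A₀).subgroupOf H :=
      Subgroup.mem_subgroupOf.mpr hx
    rw [Subgroup.subgroupOf_sup hσH hA₀H, hKdef] at hxN'
    have h1 := Subgroup.mem_map_of_mem (QuotientGroup.mk' (piCore (sigma H) ↥H)) hxN'
    rwa [Subgroup.map_sup, QuotientGroup.map_mk'_self, bot_sup_eq] at h1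
  have hĀexp : ∀ u ∈ (A₀.subgroupOf H).map (QuotientGroup.mk' (piCore (sigma H) ↥H)),
      u ^ p = 1 := by
    rintro _ ⟨a, ha, rfl⟩
    rw [← map_pow]
    have : a ^ p = 1 := Subtype.ext (by simpa using hA₀.2 (a : G) (Subgroup.mem_subgroupOf.mp ha))
    rw [this, map_one]
  have hĀcomm : ∀ u ∈ (A₀.subgroupOf H).map (QuotientGroup.mk' (piCore (sigma H) ↥H)),
      ∀ v ∈ (A₀.subgroupOf H).map (QuotientGroup.mk' (piCore (sigma H) ↥H)), u * v = v * u := by
    rintro _ ⟨a, ha, rfl⟩ _ ⟨b, hb, rfl⟩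
    rw [← map_mul, ← map_mul]
    have : a * b = b * a := Subtype.ext (by
      simpa using isMulCommutative_subgroup_iff.mp hA₀.1 (a : G) (Subgroup.mem_subgroupOf.mp ha)
        (b : G) (Subgroup.mem_subgroupOf.mp hb))
    rw [this]
  have hmemσ : ∀ w : ↥H, w ∈ piCore (sigma H) ↥H → (w : G) ∈ sigmaCore H :=
    fun w hw => ⟨w, hw, rfl⟩
  -- A₁
  obtain ⟨A₁, hA₁def⟩ : ∃ A₁ : Subgroup G, A₁ = E ⊓ (sigmaCore H ⊔ A₀) := ⟨_, rfl⟩
  have hA₁E : A₁ ≤ E := by rw [hA₁def]; exact inf_le_left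
  have hA₁N : A₁ ≤ sigmaCore H ⊔ A₀ := by rw [hA₁def]; exact inf_le_right
  have hA₁H : A₁ ≤ H := hA₁E.trans hEH
  have hA₁exp : ∀ x ∈ A₁, x ^ p = 1 := by
    intro x hx
    have hxH : x ∈ H := hA₁H hx
    have h1 := hĀexp _ (hπN x hxH (hA₁N hx))
    rw [← map_pow, QuotientGroup.mk'_apply, QuotientGroup.eq_one_iff] at h1
    have h2 : x ^ p ∈ E ⊓ sigmaCore H :=
      ⟨E.pow_mem (hA₁E hx) p, by simpa using hmemσ _ h1⟩
    rw [hEσ] at h2
    exact Subgroup.mem_bot.mp h2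
  have hA₁comm : ∀ x ∈ A₁, ∀ y ∈ A₁, x * y = y * x := by
    intro x hx y hy
    have hxH : x ∈ H := hA₁H hx
    have hyH : y ∈ H := hA₁H hy
    have h1 := hĀcomm _ (hπN x hxH (hA₁N hx)) _ (hπN y hyH (hA₁N hy))
    have h3 : QuotientGroup.mk' (piCore (sigma H) ↥H)
        ((⟨x, hxH⟩ : ↥H) * ⟨y, hyH⟩ * (⟨x, hxH⟩ : ↥H)⁻¹ * (⟨y, hyH⟩ : ↥H)⁻¹) = 1 := by
      rw [map_mul, map_mul, map_mul, map_inv, map_inv, h1]; group
    rw [QuotientGroup.mk'_apply, QuotientGroup.eq_one_iff] at h3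
    have h2 : x * y * x⁻¹ * y⁻¹ ∈ E ⊓ sigmaCore H :=
      ⟨E.mul_mem (E.mul_mem (E.mul_mem (hA₁E hx) (hA₁E hy)) (E.inv_mem (hA₁E hx)))
        (E.inv_mem (hA₁E hy)), by simpa using hmemσ _ h3⟩
    rw [hEσ] at h2
    have h4 := Subgroup.mem_bot.mp h2
    have : x * y = (x * y * x⁻¹ * y⁻¹) * (y * x) := by group
    rw [this, h4, one_mul]
  have hA₁ea : IsElementaryAbelian p A₁ := ⟨isMulCommutative_subgroup_iff.mpr hA₁comm, hA₁exp⟩
  have hA₁card : Nat.card A₁ = p ^ 2 := by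
    apply le_antisymm
    · exact (Cfsg.Agent.Lib.Helper24.pRankLE_subgroup_iff p 2 H).mp hr2 A₁ hA₁H hA₁comm hA₁exp
    · have hErel : E.relIndex H = Nat.card (sigmaCore H) := by
        have e1 := card_mul_relIndex' hEH
        rw [hEcard, hcardH, hcardK] at e1
        have hpos : 0 < (piCore (sigma H) ↥H).index := Nat.pos_of_ne_zero
          (Subgroup.index_ne_zero_of_finite)
        exact Nat.eq_of_mul_eq_mul_left hpos e1
      have hnd : ¬ p ∣ E.relIndex H := by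
        rw [hErel]
        intro hdvd
        exact hpσ (Cfsg.Agent.Lib.Helper67.BG.sigmaCore_isPi H p hpp hdvd)
      obtain ⟨l, hl, hle⟩ :=
        exists_conj_le_of_not_dvd_relIndex (isPGroup_of_ea13 hA₀) hA₀H hEH hnd
      have hle2 : A₀.map (MulAut.conj l).toMonoidHom ≤ sigmaCore H ⊔ A₀ := by
        have h1 : A₀.map (MulAut.conj l).toMonoidHom ≤
            (sigmaCore H ⊔ A₀).map (MulAut.conj l).toMonoidHom := Subgroup.map_mono le_sup_right
        rwa [map_conj_eq_of_mem_normalizer (hN hl)] at h1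
      have hle3 : A₀.map (MulAut.conj l).toMonoidHom ≤ A₁ := by
        rw [hA₁def]; exact le_inf hle hle2
      have := Subgroup.card_le_of_le hle3
      rwa [card_map_conj, hA₀card] at this
  have hEnorm : E ≤ Subgroup.normalizer (A₁ : Set G) := by
    intro e he
    have heN := hN (hEH he)
    rw [Subgroup.mem_normalizer_iff]
    intro x
    rw [hA₁def]
    constructor
    · rintro ⟨hxE, hxN⟩
      exact ⟨E.mul_mem (E.mul_mem he hxE) (E.inv_mem he),
        (Subgroup.mem_normalizer_iff.mp heN x).mp hxN⟩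
    · rintro ⟨h1, h2⟩
      refine ⟨?_, (Subgroup.mem_normalizer_iff.mp heN x).mpr h2⟩
      have e : x = e⁻¹ * (e * x * e⁻¹) * e := by group
      rw [e]
      exact E.mul_mem (E.mul_mem (E.inv_mem he) h1) he
  refine ⟨A₁, hA₁H, hA₁ea, hA₁card, ?_⟩
  intro u hu k huk
  have huE : u ∈ E := hWE hu
  have hle : Subgroup.zpowers u ≤ Subgroup.normalizer (A₁ : Set G) := by
    rw [Subgroup.zpowers_le]; exact hEnorm huE
  have hJ : IsPGroup p (Subgroup.zpowers u ⊔ A₁ : Subgroup G) :=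
    IsPGroup.to_sup_of_normal_right' (isPGroup_zpowers13 huk) (isPGroup_of_ea13 hA₁ea) hle
  have hJH : Subgroup.zpowers u ⊔ A₁ ≤ H :=
    sup_le (by rw [Subgroup.zpowers_le]; exact hEH huE) hA₁H
  obtain ⟨R, hR, hJR⟩ := exists_isSylowIn_ge hJ hJH
  obtain ⟨P, hP⟩ := hR.exists_sylow
  have hPc := (hSylAb P).1
  have huR : u ∈ R := hJR (Subgroup.mem_sup_left (Subgroup.mem_zpowers u))
  rw [Subgroup.mem_centralizer_iff]
  intro a ha
  have haR : a ∈ R := hJR (Subgroup.mem_sup_right ha)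
  rw [← hP] at huR haR
  obtain ⟨u', hu', rfl⟩ := huR
  obtain ⟨a', ha', rfl⟩ := haR
  have := isMulCommutative_subgroup_iff.mp hPc a' ha' u' hu'
  exact congrArg Subtype.val this

end Cfsg.Agent.Lib.Helper13.BG
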