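import Mathlib
import Cfsg.Statements.S1414
import Cfsg.Statements.S1416
import Cfsg.Agent.Lib.Helper13.BG.S1427C
import Cfsg.Agent.Lib.Helper1.RankTwoLin
import Cfsg.Agent.Lib.Helper1.GL2Odd

/-!
Bender–Glauberman, towards Corollary 13.3 (S1427), part D (helper13): the two sub-cases for the
maximal subgroup `L ⊇ N_G(Z)`.
-/

set_option autoImplicit false
set_option linter.style.haveILetI false

namespace Cfsg.Agent.Lib.Helper13.BG

open Cfsg Cfsg.Agent.Lib.Helper46 Cfsg.Agent.Lib.Helper35.BG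
open scoped commutatorElement

variable {G : Type*} [Group G]

theorem factorization_eq_of_dvd_mul {q a c k : ℕ} (hq : q.Prime) (h1 : q ^ k ∣ a)
    (h2 : a ∣ q ^ k * c) (hc : ¬ q ∣ c) (hc0 : c ≠ 0) : a.factorization q = k := by
  have hb0 : q ^ k * c ≠ 0 := mul_ne_zero (pow_ne_zero _ hq.ne_zero) hc0
  have ha0 : a ≠ 0 := fun h => hb0 (by rw [h] at h2; exact zero_dvd_iff.mp h2)
  apply le_antisymm
  · have h3 := (Nat.factorization_le_iff_dvd ha0 hb0).mpr h2 q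
    rw [Nat.factorization_mul (pow_ne_zero _ hq.ne_zero) hc0] at h3
    simpa [Nat.Prime.factorization_pow hq, Nat.factorization_eq_zero_of_not_dvd hc] using h3
  · exact (hq.pow_dvd_iff_le_factorization ha0).mp h1

/-- If an `r`-group normalizes but does not centralize an elementary abelian `q`-group of order
`q ^ 2` (`r ≠ q` odd primes), then `r < q`. -/
theorem prime_lt_of_not_centralize [Finite G] {r q : ℕ} [Fact r.Prime] [Fact q.Prime]
    (hr2 : r ≠ 2) (hq2 : q ≠ 2) (hrq : r ≠ q) {B A : Subgroup G} (hB : IsPGroup r B)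
    (hA : IsElementaryAbelian q A) (hAcard : Nat.card A = q ^ 2)
    (hBA : B ≤ Subgroup.normalizer (A : Set G))
    (hnc : ¬ B ≤ Subgroup.centralizer (A : Set G)) : r < q := by
  have hr : r.Prime := Fact.out
  have hq : q.Prime := Fact.out
  have hAq : IsPGroup q A := isPGroup_of_ea13 hA
  have hAr : PRankLE q 2 A := by
    intro C _ _
    rw [← hAcard]
    exact Subgroup.card_le_card_group C
  obtain ⟨φ, hφ⟩ := Cfsg.Agent.Lib.Helper1.exists_linearization hq2 A B hAq hAr hBA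
  rw [SetLike.not_le_iff_exists] at hnc
  obtain ⟨b, hbB, hbC⟩ := hnc
  obtain ⟨j, hj⟩ := hB ⟨b, hbB⟩
  have hbj : b ^ r ^ j = 1 := by
    have := congrArg Subtype.val hj
    simpa using this
  have hbo : (orderOf b).Coprime q :=
    Nat.Coprime.coprime_dvd_left (orderOf_dvd_of_pow_eq_one hbj)
      (Nat.Coprime.pow_left j ((Nat.coprime_primes hr hq).mpr hrq))
  have hφb : φ ⟨b, hbB⟩ ≠ 1 := fun h => hbC (hφ ⟨b, hbB⟩ h hbo)
  have ho : orderOf (φ ⟨b, hbB⟩) ∣ r ^ j :=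
    (orderOf_map_dvd φ _).trans (orderOf_dvd_of_pow_eq_one hj)
  have ho1 : orderOf (φ ⟨b, hbB⟩) ≠ 1 := fun h => hφb (orderOf_eq_one_iff.mp h)
  have hr_dvd : r ∣ orderOf (φ ⟨b, hbB⟩) := by
    obtain ⟨i, -, hi2⟩ := (Nat.dvd_prime_pow hr).mp ho
    rw [hi2]
    rcases i with _ | i
    · rw [pow_zero] at hi2; exact absurd hi2 ho1
    · exact dvd_pow_self r (Nat.succ_ne_zero i)
  have hdvd : r ∣ Nat.card (GL (Fin 2) (ZMod q)) := hr_dvd.trans (orderOf_dvd_natCard _)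
  exact Cfsg.Agent.Lib.Helper1.gl2_prime_lt hq2 hr hr2 hrq hdvd

theorem commutator_le_self13 (L : Subgroup G) : ⁅L, L⁆ ≤ L := by
  rw [← map_commutator_subtype]; exact Subgroup.map_subtype_le _

theorem le_normalizer_commutator13 (L : Subgroup G) :
    L ≤ Subgroup.normalizer ((⁅L, L⁆ : Subgroup G) : Set G) := by
  rw [← map_commutator_subtype]; exact le_normalizer_map_subtype _

/-- conjugating back a subgroup that normalizes a conjugate -/
theorem map_conj_inv_le_normalizer {A T : Subgroup G} {n : G}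
    (h : A ≤ Subgroup.normalizer ((T.map (MulAut.conj n).toMonoidHom : Subgroup G) : Set G)) :
    A.map (MulAut.conj n⁻¹).toMonoidHom ≤ Subgroup.normalizer (T : Set G) := by
  rw [normalizer_map_conj] at h
  have := Subgroup.map_mono (f := (MulAut.conj n⁻¹).toMonoidHom) h
  rwa [map_conj_mul, inv_mul_cancel, map_conj_one] at this

/-- Sub-case `q ∈ σ(L)`. -/
theorem false_of_sigma_L [Finite G] (hG : IsMinSimpleOddOrder G)
    (h1403 : type_of% (@Cfsg.CfsgFrozen.S1403 G _ _ hG))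
    (h1404 : type_of% (@Cfsg.CfsgFrozen.S1404 G _ _ hG))
    (h1414 : type_of% (@Cfsg.CfsgFrozen.S1414 G _ _ hG))
    {M L : Subgroup G} (hM : IsCoatom M) (hL : IsCoatom L) (hLM : L ≠ M)
    {p q : ℕ} [Fact p.Prime] [Fact q.Prime]
    (hrM : PRankLE p 1 M) (hpni : ¬ IsIdealPrime p G)
    {A₁ : Subgroup G} (hA₁L : A₁ ≤ L) (hA₁ : IsElementaryAbelian p A₁)
    (hA₁card : Nat.card A₁ = p ^ 2)
    {T : Subgroup G} (hT : IsSylowIn q T L) (hTM : T ≤ M)
    (hNT : Subgroup.normalizer (T : Set G) ≤ M)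
    (hqL : q ∈ sigma L) : False := by
  have hqp : q.Prime := Fact.out
  have hpp : p.Prime := Fact.out
  have hT1 : T ≠ ⊤ := fun h => hM.1 (top_le_iff.mp (h ▸ hTM))
  have hqβ : q ∉ beta L := by
    intro hβ
    have hα : ¬ PRankLE q 2 L := hβ.1.2
    have hTr : ¬ PRankLE q 2 T := fun h => hα (pRankLE_of_isSylowIn hT h)
    obtain ⟨L', -, hu⟩ := h1403 T hT1
      (not_rankLE_of_not_pRankLE (fun h => hTr (pRankLE_mono hqp.pos (by norm_num) h)))
      (Or.inl (not_rankLE_of_not_pRankLE hTr))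
    exact hLM ((hu L ⟨hL, hT.1⟩).trans (hu M ⟨hM, hTM⟩).symm)
  have hpβ : p ∉ beta L := fun h => hpni h.2
  obtain ⟨-, -, ⟨K, hK, hKnil⟩, -⟩ := h1414 L hL
  obtain ⟨P, hP⟩ := hT.exists_sylow
  have hTL' : T ≤ ⁅L, L⁆ := by
    rw [← hP, ← map_commutator_subtype]
    exact Subgroup.map_mono
      (Cfsg.Agent.Lib.Helper66.BG.sylow_le_commutator_of_sigma hG h1404 L hL q hqL P)
  have hTL'syl : IsSylowIn q T ⁅L, L⁆ := sylIn_mono hT hTL' (commutator_le_self13 L)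
  obtain ⟨TK, hTK⟩ := exists_sylIn q K
  have hKL' : K ≤ ⁅L, L⁆ := hK.1
  have hTKsyl : IsSylowIn q TK ⁅L, L⁆ := by
    refine ⟨hTK.1.trans hKL', ?_⟩
    rw [hTK.2]
    congr 1
    have e1 := card_mul_relIndex' hKL'
    have hnd : ¬ q ∣ K.relIndex ⁅L, L⁆ := hK.2.2 q hqp ⟨hqp, hqβ⟩
    have hL0 : Nat.card (⁅L, L⁆ : Subgroup G) ≠ 0 := Nat.card_pos.ne'
    have hrel0 : K.relIndex ⁅L, L⁆ ≠ 0 := by
      intro h0; rw [h0, mul_zero] at e1; exact hL0 e1.symm
    rw [← e1, Nat.factorization_mul Nat.card_pos.ne' hrel0]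
    simp [Nat.factorization_eq_zero_of_not_dvd hnd]
  have hKN : K ≤ Subgroup.normalizer (TK : Set G) := by
    obtain ⟨PK, hPK⟩ := hTK.exists_sylow
    have hall := ((Group.isNilpotent_of_finite_tfae (G := ↥K)).out 0 3).mp hKnil
    haveI : (PK : Subgroup ↥K).Normal := hall q inferInstance PK
    rw [← hPK]; exact le_normalizer_map_subtype _
  have hnd : ¬ p ∣ Nat.card (Sylow q ↥(⁅L, L⁆ : Subgroup G)) := by
    obtain ⟨P₀, hP₀⟩ := hTKsyl.exists_sylow
    rw [P₀.card_eq_index_normalizer]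
    intro hdvd
    have hmem : ∀ x : ↥(⁅L, L⁆ : Subgroup G), x ∈ (P₀ : Subgroup ↥(⁅L, L⁆ : Subgroup G)) ↔
        (x : G) ∈ TK := by
      intro x
      rw [← hP₀]
      constructor
      · intro h; exact ⟨x, h, rfl⟩
      · rintro ⟨x', hx', hxx⟩
        have : x' = x := Subtype.ext hxx
        rwa [← this]
    have hle : K.subgroupOf ⁅L, L⁆ ≤
        Subgroup.normalizer ((P₀ : Subgroup ↥(⁅L, L⁆ : Subgroup G)) : Set ↥(⁅L, L⁆ : Subgroup G)) := by
      intro k hk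
      have hkN := hKN (Subgroup.mem_subgroupOf.mp hk)
      rw [Subgroup.mem_normalizer_iff] at hkN ⊢
      intro x
      rw [hmem, hmem]
      simpa using hkN (x : G)
    have h2 := Subgroup.index_dvd_of_le hle
    exact hK.2.2 p hpp ⟨hpp, hpβ⟩ (hdvd.trans h2)
  have hA₁N : A₁ ≤ Subgroup.normalizer ((⁅L, L⁆ : Subgroup G) : Set G) :=
    hA₁L.trans (le_normalizer_commutator13 L)
  obtain ⟨n, -, hAn⟩ := exists_conj_normalized (isPGroup_of_ea13 hA₁) hA₁N hTL'syl hnd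
  have hA₂ := map_conj_inv_le_normalizer hAn
  exact not_le_of_pRankLE_one hrM (ea_map_conj hA₁ n⁻¹) (by rw [card_map_conj, hA₁card])
    (hA₂.trans hNT)

/-- Sub-case `q ∉ σ(L)`. -/
theorem false_of_not_sigma_L [Finite G] (hG : IsMinSimpleOddOrder G)
    (h1404 : type_of% (@Cfsg.CfsgFrozen.S1404 G _ _ hG))
    (h1405 : type_of% (@Cfsg.CfsgFrozen.S1405 G _ _ hG))
    (h1416 : type_of% (@Cfsg.CfsgFrozen.S1416 G _ _ hG))
    (h1417 : type_of% (@Cfsg.CfsgFrozen.S1417 G _ _ hG))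
    {M L : Subgroup G} (hM : IsCoatom M) (hL : IsCoatom L) (hLM : L ≠ M)
    {p q : ℕ} [Fact p.Prime] [Fact q.Prime] (hpq : p ≠ q)
    (hrM : PRankLE p 1 M)
    {A₁ : Subgroup G} (hA₁L : A₁ ≤ L) (hA₁ : IsElementaryAbelian p A₁)
    (hA₁card : Nat.card A₁ = p ^ 2)
    {T : Subgroup G} (hT : IsSylowIn q T L) (hTM : T ≤ M)
    (hNT : Subgroup.normalizer (T : Set G) ≤ M)
    {Z : Subgroup G} (hZT : Z ≤ T) (hZ1 : Z ≠ ⊥) (hNZ : Subgroup.normalizer (Z : Set G) ≤ L)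
    {X : Subgroup G} (hXM : X ≤ M) (hXL : X ≤ L) (hX : Nat.card X = p)
    (hqL : q ∉ sigma L) : False := by
  have hqp : q.Prime := Fact.out
  have hpp : p.Prime := Fact.out
  have hTq : IsPGroup q T := sylIn_isPGroup hT
  have hT1 : T ≠ ⊥ := fun h => hZ1 (le_bot_iff.mp (h ▸ hZT))
  have hp2 : p ≠ 2 := prime_ne_two13 hG (X := A₁) (by rw [hA₁card]; exact dvd_pow_self p (by norm_num))
  have hq2 : q ≠ 2 := prime_ne_two13 hG (X := T)
    (Cfsg.Agent.Lib.Helper67.BG.dvd_card_of_isPGroup_ne_bot hTq hT1)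
  have hTnc : ¬ IsCyclic T := by
    intro hc
    have h1 := (Cfsg.Agent.Lib.Helper77.normalizer_le_normalizer_of_isCyclic hc hZT).trans hNZ
    exact hqL (mem_sigma_of_sylIn hT hT1 h1)
  obtain ⟨Aq, hAqT, hAq, hAqcard⟩ :=
    Cfsg.Agent.Lib.Helper2.BG.exists_ea_sq_of_not_isCyclic hq2 hTq hTnc
  have hAqL : Aq ≤ L := hAqT.trans hT.1
  have hAqM : Aq ≤ M := hAqT.trans hTM
  have hq2L : PRankLE q 2 L := by
    by_contra h
    exact hqL (Cfsg.Agent.Lib.Helper46.BG.mem_sigma_of_mem_alpha hG h1405 hL ⟨hqp, h⟩)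
  have hqτ : q ∈ tau2 L := ⟨hqp, hqL, hq2L, not_pRankLE_one_of_le hAq hAqcard hAqL⟩
  obtain ⟨-, -, hNq, -, hTI, -⟩ := h1417 L hL q hqτ Aq ⟨hAqL, hAq, hAqcard⟩
  have hσM : sigmaCore L ⊓ M = ⊥ := hTI M hM (Ne.symm hLM) hAqM
  have hXp : IsPGroup p X := IsPGroup.of_card (n := 1) (by rw [hX, pow_one])
  have hpL : p ∉ sigma L := by
    intro hpσ
    obtain ⟨R, hR, hXR⟩ := exists_isSylowIn_ge hXp hXL
    obtain ⟨P, hP⟩ := hR.exists_sylow
    have h1 := Cfsg.Agent.Lib.Helper66.BG.sylow_le_piCore_sigma hG h1404 h1405 L hL p hpσ P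
    have hXσ : X ≤ sigmaCore L := by
      intro x hx
      have h2 := hXR hx
      rw [← hP] at h2
      obtain ⟨x', hx', rfl⟩ := h2
      exact ⟨x', h1 hx', rfl⟩
    have h3 : X ≤ sigmaCore L ⊓ M := le_inf hXσ hXM
    rw [hσM, le_bot_iff] at h3
    rw [h3, Subgroup.card_bot] at hX
    exact hpp.one_lt.ne' hX.symm
  have hp2L : PRankLE p 2 L := by
    by_contra h
    exact hpL (Cfsg.Agent.Lib.Helper46.BG.mem_sigma_of_mem_alpha hG h1405 hL ⟨hpp, h⟩)
  have hpτ : p ∈ tau2 L := ⟨hpp, hpL, hp2L, not_pRankLE_one_of_le hA₁ hA₁card hA₁L⟩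
  obtain ⟨-, -, hNp, -, -, -⟩ := h1417 L hL p hpτ A₁ ⟨hA₁L, hA₁, hA₁card⟩
  have hσL : sigmaCore L ≤ L := Cfsg.Agent.Lib.Helper67.BG.sigmaCore_le L
  have hσ0 : Nat.card (sigmaCore L) ≠ 0 := Nat.card_pos.ne'
  have hqσ' : ¬ q ∣ Nat.card (sigmaCore L) :=
    fun h => hqL (Cfsg.Agent.Lib.Helper67.BG.sigmaCore_isPi L q hqp h)
  have hpσ' : ¬ p ∣ Nat.card (sigmaCore L) :=
    fun h => hpL (Cfsg.Agent.Lib.Helper67.BG.sigmaCore_isPi L p hpp h)
  -- (i) a conjugate of A₁ normalizes Aq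
  have hcardNq : Nat.card (sigmaCore L ⊔ Aq : Subgroup G) ∣ q ^ 2 * Nat.card (sigmaCore L) := by
    have := card_sup_sigmaCore_dvd hAqL
    rwa [sup_comm, hAqcard] at this
  have hAqsyl : IsSylowIn q Aq (sigmaCore L ⊔ Aq) := by
    refine ⟨le_sup_right, ?_⟩
    rw [hAqcard]
    congr 1
    symm
    exact factorization_eq_of_dvd_mul hqp
      (by rw [← hAqcard]; exact Subgroup.card_dvd_of_le le_sup_right) hcardNq hqσ' hσ0
  have hnd1 : ¬ p ∣ Nat.card (Sylow q ↥(sigmaCore L ⊔ Aq : Subgroup G)) := by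
    intro h
    have h1 := (h.trans (card_sylow_dvd_card _)).trans hcardNq
    rcases (Nat.Prime.dvd_mul hpp).mp h1 with h2 | h2
    · exact hpq ((Nat.prime_dvd_prime_iff_eq hpp hqp).mp (hpp.dvd_of_dvd_pow h2))
    · exact hpσ' h2
  obtain ⟨n, -, hAn⟩ :=
    exists_conj_normalized (isPGroup_of_ea13 hA₁) (hA₁L.trans hNq) hAqsyl hnd1
  have hA₂N := map_conj_inv_le_normalizer hAn
  have hA₂ea := ea_map_conj hA₁ n⁻¹
  have hA₂card : Nat.card (A₁.map (MulAut.conj n⁻¹).toMonoidHom) = p ^ 2 := by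
    rw [card_map_conj, hA₁card]
  have hlt1 : p < q := by
    by_contra hnlt
    apply not_le_of_pRankLE_one hrM hA₂ea hA₂card
    refine le_trans ?_ (h1416 M hM q Aq ⟨hAqM, hAq, hAqcard⟩).1
    by_contra hnc
    exact hnlt (prime_lt_of_not_centralize hp2 hq2 hpq (isPGroup_of_ea13 hA₂ea) hAq hAqcard
      hA₂N hnc)
  -- (ii) T normalizes a conjugate of A₁
  have hcardNp : Nat.card (sigmaCore L ⊔ A₁ : Subgroup G) ∣ p ^ 2 * Nat.card (sigmaCore L) := by
    have := card_sup_sigmaCore_dvd hA₁L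
    rwa [sup_comm, hA₁card] at this
  have hA₁syl : IsSylowIn p A₁ (sigmaCore L ⊔ A₁) := by
    refine ⟨le_sup_right, ?_⟩
    rw [hA₁card]
    congr 1
    symm
    exact factorization_eq_of_dvd_mul hpp
      (by rw [← hA₁card]; exact Subgroup.card_dvd_of_le le_sup_right) hcardNp hpσ' hσ0
  have hnd2 : ¬ q ∣ Nat.card (Sylow p ↥(sigmaCore L ⊔ A₁ : Subgroup G)) := by
    intro h
    have h1 := (h.trans (card_sylow_dvd_card _)).trans hcardNp
    rcases (Nat.Prime.dvd_mul hqp).mp h1 with h2 | h2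
    · exact hpq ((Nat.prime_dvd_prime_iff_eq hqp hpp).mp (hqp.dvd_of_dvd_pow h2)).symm
    · exact hqσ' h2
  obtain ⟨n', -, hTn⟩ := exists_conj_normalized hTq (hT.1.trans hNp) hA₁syl hnd2
  have hA₃ea := ea_map_conj hA₁ n'
  have hA₃card : Nat.card (A₁.map (MulAut.conj n').toMonoidHom) = p ^ 2 := by
    rw [card_map_conj, hA₁card]
  have hlt2 : q < p := by
    by_contra hnlt
    apply not_le_of_pRankLE_one hrM hA₃ea hA₃card
    have hTc : T ≤ Subgroup.centralizer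
        ((A₁.map (MulAut.conj n').toMonoidHom : Subgroup G) : Set G) := by
      by_contra hnc
      exact hnlt (prime_lt_of_not_centralize hq2 hp2 (Ne.symm hpq) hTq hA₃ea hA₃card hTn hnc)
    have h5 : A₁.map (MulAut.conj n').toMonoidHom ≤ Subgroup.centralizer (T : Set G) :=
      Subgroup.le_centralizer_iff.mp hTc
    exact h5.trans ((centralizer_le_normalizer' T).trans hNT)
  omega

end Cfsg.Agent.Lib.Helper13.BG
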