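import Mathlib
import Cfsg.Statements.S1427
import Cfsg.Agent.Lib.Helper13.BG.S1427D
import Cfsg.Agent.Lib.Helper23.Compl

/-!
Bender–Glauberman Corollary 13.3 (statement S1427), helper13, in the BG-campaign style:
a cyclic Sylow `p`-subgroup `S` of a complement `E` of `M_σ` in `M` acts in a prime manner on
`M_σ`, i.e. `C_{M_σ}(x) = C_{M_σ}(S)` for every `x ∈ S`, `x ≠ 1`.

Hypotheses (types only): S1403 (9.6), S1404 (10.1), S1405 (10.2), S1414 (10.8), S1416 (12.3),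
S1417 (12.5).  Used cores: helper66 `s1350_core`, helper20 `s1408_core`, helper2 `s1424_core`.

Proof.  Let `X = Ω₁(S)` and `H` a maximal subgroup containing `N_G(X) ⊇ N_G(S)`.  Then `H` is
not conjugate to `M` and `p ∈ σ(H)` or `p ∈ τ₂(H)`.
* `p ∈ σ(H)`: `S ≤ H'`, `[C_{M_σ}(X), S] ≤ H'`, and `H'H_α/H_α` is nilpotent while
  `α(H) ∩ σ(M) = ∅` (`comm_of_sigma_case`).
* `p ∈ τ₂(H)`: if `y = [c, s] ≠ 1`, then `y` centralizes some `A₁ ∈ E_p²(H)`; for `z ∈ ⟨y⟩` of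
  prime order `q ∈ σ(M)` and `L` maximal over `N_G(⟨z⟩)` we get a contradiction from BG 12.14,
  10.8, 12.5 and 12.3 (`false_of_sigma_L`, `false_of_not_sigma_L`).
-/

set_option autoImplicit false
set_option linter.style.haveILetI false

namespace Cfsg.Agent.Lib.Helper13.BG

open Cfsg Cfsg.Agent.Lib.Helper46 Cfsg.Agent.Lib.Helper35.BG
open scoped commutatorElement

variable {G : Type*} [Group G]

/-- The case `p ∈ τ₂(H)`. -/
theorem comm_of_tau2_case [Finite G] (hG : IsMinSimpleOddOrder G)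
    (h1403 : type_of% (@Cfsg.CfsgFrozen.S1403 G _ _ hG))
    (h1404 : type_of% (@Cfsg.CfsgFrozen.S1404 G _ _ hG))
    (h1405 : type_of% (@Cfsg.CfsgFrozen.S1405 G _ _ hG))
    (h1414 : type_of% (@Cfsg.CfsgFrozen.S1414 G _ _ hG))
    (h1416 : type_of% (@Cfsg.CfsgFrozen.S1416 G _ _ hG))
    (h1417 : type_of% (@Cfsg.CfsgFrozen.S1417 G _ _ hG))
    {M H : Subgroup G} (hM : IsCoatom M) (hH : IsCoatom H)
    (hnc : ∀ g : G, H ≠ M.map (MulAut.conj g).toMonoidHom)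
    {p : ℕ} [Fact p.Prime] (hpM : p ∉ sigma M) (hrM : PRankLE p 1 M) (hpH : p ∈ tau2 H)
    {X : Subgroup G} (hX : Nat.card X = p) (hXM : X ≤ M)
    {c s : G} (hc : c ∈ sigmaCore M) (hcX : c ∈ Subgroup.centralizer (X : Set G)) (hcH : c ∈ H)
    (hsM : s ∈ M) (hsH : s ∈ H) (hsX : s ∈ Subgroup.centralizer (X : Set G))
    {k : ℕ} (hs : s ^ p ^ k = 1) : c * s = s * c := by
  classical
  by_contra hne
  have hpp : p.Prime := Fact.out
  obtain ⟨y, hydef⟩ : ∃ y : G, y = c * s * c⁻¹ * s⁻¹ := ⟨_, rfl⟩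
  have hy1 : y ≠ 1 := by
    intro h
    apply hne
    have : c * s = (c * s * c⁻¹ * s⁻¹) * (s * c) := by group
    rw [this, ← hydef, h, one_mul]
  have hyσ : y ∈ sigmaCore M := by rw [hydef]; exact comm_mem_sigmaCore hc hsM
  -- `H_σ` is nilpotent, so `σ(M) ∩ σ(H) = ∅`
  obtain ⟨A₀, hA₀H, hA₀, hA₀card⟩ :=
    Cfsg.Agent.Lib.Helper20.BG.exists_ea_sq H p hpH.2.2.1 hpH.2.2.2
  obtain ⟨hnilH, -⟩ := h1417 H hH p hpH A₀ ⟨hA₀H, hA₀, hA₀card⟩
  have hdisj : ∀ r : ℕ, r ∈ sigma H → r ∈ sigma M → False := fun r h1 h2 =>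
    sigma_disjoint_of_nilpotent hG h1404 h1405 hM hH hnc hnilH h1 h2
  -- the subgroup `W`
  obtain ⟨W, hWdef⟩ : ∃ W : Subgroup G, W = (sigmaCore M ⊔ Subgroup.zpowers s) ⊓ H := ⟨_, rfl⟩
  have hcW : c ∈ W := by
    rw [hWdef]; exact ⟨Subgroup.mem_sup_left hc, hcH⟩
  have hsW : s ∈ W := by
    rw [hWdef]; exact ⟨Subgroup.mem_sup_right (Subgroup.mem_zpowers s), hsH⟩
  have hWH : W ≤ H := by rw [hWdef]; exact inf_le_right
  have hWcop : (Nat.card W).Coprime (Nat.card (sigmaCore H)) := by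
    by_contra hnc'
    obtain ⟨r, hr, hr1, hr2⟩ := Nat.Prime.not_coprime_iff_dvd.mp hnc'
    have hrH : r ∈ sigma H := Cfsg.Agent.Lib.Helper67.BG.sigmaCore_isPi H r hr hr2
    have h0 : Nat.card W ∣ Nat.card (sigmaCore M ⊔ Subgroup.zpowers s : Subgroup G) := by
      rw [hWdef]; exact Subgroup.card_dvd_of_le inf_le_left
    have h1 : r ∣ Nat.card (Subgroup.zpowers s) * Nat.card (sigmaCore M) := by
      have h3 := card_sup_sigmaCore_dvd (K := Subgroup.zpowers s) (M := M)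
        ((Subgroup.zpowers_le).mpr hsM)
      rw [sup_comm] at h3
      exact (hr1.trans h0).trans h3
    rcases (Nat.Prime.dvd_mul hr).mp h1 with h2 | h2
    · have : r = p := Cfsg.Agent.Lib.Helper67.BG.prime_eq_of_dvd_card_isPGroup
        (isPGroup_zpowers13 hs) hr h2
      exact hpH.2.1 (this ▸ hrH)
    · exact hdisj r hrH (Cfsg.Agent.Lib.Helper67.BG.sigmaCore_isPi M r hr h2)
  obtain ⟨A₁, hA₁H, hA₁, hA₁card, hcent⟩ :=
    exists_ea_centralized hG h1404 h1405 h1417 hH hpH W hWH hWcop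
  -- `y` centralizes `A₁`
  have hu1 : c * s * c⁻¹ ∈ Subgroup.centralizer (A₁ : Set G) :=
    hcent _ (W.mul_mem (W.mul_mem hcW hsW) (W.inv_mem hcW)) k (by rw [conj_pow, hs]; group)
  have hu2 : s ∈ Subgroup.centralizer (A₁ : Set G) := hcent s hsW k hs
  have hyA : y ∈ Subgroup.centralizer (A₁ : Set G) := by
    rw [hydef]; exact Subgroup.mul_mem _ hu1 (Subgroup.inv_mem _ hu2)
  have hyX : y ∈ Subgroup.centralizer (X : Set G) := by
    rw [hydef]
    exact Subgroup.mul_mem _ (Subgroup.mul_mem _ (Subgroup.mul_mem _ hcX hsX)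
      (Subgroup.inv_mem _ hcX)) (Subgroup.inv_mem _ hsX)
  -- an element `z` of prime order `q` in `⟨y⟩`
  obtain ⟨q, hq, hqy⟩ := Nat.exists_prime_and_dvd (fun h => hy1 (orderOf_eq_one_iff.mp h))
  haveI : Fact q.Prime := ⟨hq⟩
  obtain ⟨z, hzdef⟩ : ∃ z : G, z = y ^ (orderOf y / q) := ⟨_, rfl⟩
  have hzo : orderOf z = q := by
    rw [hzdef]; exact orderOf_pow_orderOf_div (orderOf_pos y).ne' hqy
  have hzσ : z ∈ sigmaCore M := by rw [hzdef]; exact Subgroup.pow_mem _ hyσ _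
  have hqσ : q ∈ sigma M := mem_sigma_of_dvd_orderOf hq hzσ (hzo ▸ dvd_rfl)
  have hpq : p ≠ q := fun h => hpM (h ▸ hqσ)
  obtain ⟨Z, hZdef⟩ : ∃ Z : Subgroup G, Z = Subgroup.zpowers z := ⟨_, rfl⟩
  have hZcard : Nat.card Z = q := by rw [hZdef, Nat.card_zpowers, hzo]
  have hZq : IsPGroup q Z := IsPGroup.of_card (n := 1) (by rw [hZcard, pow_one])
  have hZ1 : Z ≠ ⊥ := by
    intro h
    rw [h, Subgroup.card_bot] at hZcard
    exact hq.one_lt.ne' hZcard.symm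
  have hZM : Z ≤ M := by
    rw [hZdef, Subgroup.zpowers_le]
    exact Cfsg.Agent.Lib.Helper67.BG.sigmaCore_le M hzσ
  have hZtop : Z ≠ ⊤ := fun h => hM.1 (top_le_iff.mp (h ▸ hZM))
  have hA₁Z : A₁ ≤ Subgroup.centralizer (Z : Set G) := by
    have hz : z ∈ Subgroup.centralizer (A₁ : Set G) := by
      rw [hzdef]; exact Subgroup.pow_mem _ hyA _
    apply Subgroup.le_centralizer_iff.mp
    rw [hZdef, Subgroup.zpowers_le]; exact hz
  have hXZ : X ≤ Subgroup.centralizer (Z : Set G) := by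
    have hz : z ∈ Subgroup.centralizer (X : Set G) := by
      rw [hzdef]; exact Subgroup.pow_mem _ hyX _
    apply Subgroup.le_centralizer_iff.mp
    rw [hZdef, Subgroup.zpowers_le]; exact hz
  obtain ⟨L, hL, hNZL⟩ := exists_coatom_ge (normalizer_ne_top hG hZ1 hZtop)
  have hA₁L : A₁ ≤ L := (hA₁Z.trans (centralizer_le_normalizer' Z)).trans hNZL
  have hXL : X ≤ L := (hXZ.trans (centralizer_le_normalizer' Z)).trans hNZL
  have hZL : Z ≤ L := Subgroup.le_normalizer.trans hNZL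
  have hLM : L ≠ M := by
    intro h
    exact not_le_of_pRankLE_one hrM hA₁ hA₁card (h ▸ hA₁L)
  -- a Sylow `q`-subgroup of `M ∩ L` containing `Z`
  obtain ⟨T0, hT0⟩ := (hZq.comap_subtype (K := M ⊓ L)).exists_le_sylow
  have hZT : Z ≤ (T0 : Subgroup ↥(M ⊓ L)).map (M ⊓ L).subtype := by
    intro x hx
    exact ⟨⟨x, ⟨hZM hx, hZL hx⟩⟩, hT0 (Subgroup.mem_subgroupOf.mpr hx), rfl⟩
  obtain ⟨-, hNT, hTidx⟩ := Cfsg.Agent.Lib.Helper2.BG.s1424_core hG h1404 h1416 M hM q hqσ Z hZq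
    hZ1 hZM L hL hLM hNZL T0 hZT
  obtain ⟨T, hTdef⟩ : ∃ T : Subgroup G, T = (T0 : Subgroup ↥(M ⊓ L)).map (M ⊓ L).subtype :=
    ⟨_, rfl⟩
  rw [← hTdef] at hZT hNT hTidx
  have hTML : T ≤ M ⊓ L := by rw [hTdef]; exact Subgroup.map_subtype_le _
  have hTq : IsPGroup q T := by rw [hTdef]; exact T0.isPGroup'.map _
  have hTsyl : IsSylowIn q T L :=
    isSylowIn_of_not_dvd_relIndex hTq (hTML.trans inf_le_right) hTidx
  have hpni : ¬ IsIdealPrime p G :=
    (Cfsg.Agent.Lib.Helper20.BG.s1408_core hG h1403 H hH p hpH.2.1 hpH.2.2.1 hpH.2.2.2).1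
  by_cases hqL : q ∈ sigma L
  · exact false_of_sigma_L hG h1403 h1404 h1414 hM hL hLM hrM hpni hA₁L hA₁ hA₁card hTsyl
      (hTML.trans inf_le_left) hNT hqL
  · exact false_of_not_sigma_L hG h1404 h1405 h1416 h1417 hM hL hLM hpq hrM hA₁L hA₁ hA₁card
      hTsyl (hTML.trans inf_le_left) hNT hZT hZ1 hNZL hXM hXL hX hqL

/-- **BG 13.3, main form.** If a Sylow `p`-subgroup `S₀` of `M` is cyclic, `p ∉ σ(M)`, and
`X ≤ S₀` has order `p`, then `C_{M_σ}(X)` centralizes `S₀`. -/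
theorem cent_le_cent_of_cyclic_sylow [Finite G] (hG : IsMinSimpleOddOrder G)
    (h1403 : type_of% (@Cfsg.CfsgFrozen.S1403 G _ _ hG))
    (h1404 : type_of% (@Cfsg.CfsgFrozen.S1404 G _ _ hG))
    (h1405 : type_of% (@Cfsg.CfsgFrozen.S1405 G _ _ hG))
    (h1414 : type_of% (@Cfsg.CfsgFrozen.S1414 G _ _ hG))
    (h1416 : type_of% (@Cfsg.CfsgFrozen.S1416 G _ _ hG))
    (h1417 : type_of% (@Cfsg.CfsgFrozen.S1417 G _ _ hG))
    {M : Subgroup G} (hM : IsCoatom M) {p : ℕ} [Fact p.Prime] (hpM : p ∉ sigma M)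
    {S₀ : Subgroup G} (hS₀ : IsSylowIn p S₀ M) (hcyc : IsCyclic S₀)
    {X : Subgroup G} (hXS : X ≤ S₀) (hX : Nat.card X = p) :
    ∀ c ∈ sigmaCore M, c ∈ Subgroup.centralizer (X : Set G) → ∀ s ∈ S₀, c * s = s * c := by
  intro c hc hcX s hs
  have hpp : p.Prime := Fact.out
  have hX1 : X ≠ ⊥ := by
    intro h
    rw [h, Subgroup.card_bot] at hX
    exact hpp.one_lt.ne' hX.symm
  have hXM : X ≤ M := hXS.trans hS₀.1
  have hXtop : X ≠ ⊤ := fun h => hM.1 (top_le_iff.mp (h ▸ hXM))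
  obtain ⟨H, hH, hNXH⟩ := exists_coatom_ge (normalizer_ne_top hG hX1 hXtop)
  have hNS : Subgroup.normalizer (S₀ : Set G) ≤ H :=
    (Cfsg.Agent.Lib.Helper77.normalizer_le_normalizer_of_isCyclic hcyc hXS).trans hNXH
  have hS₀H : S₀ ≤ H := Subgroup.le_normalizer.trans hNS
  have hS₀1 : S₀ ≠ ⊥ := fun h => hX1 (le_bot_iff.mp (h ▸ hXS))
  have hp2 : p ≠ 2 := prime_ne_two13 hG (X := X) (by rw [hX])
  -- `H` is not conjugate to `M`
  have hnc : ∀ g : G, H ≠ M.map (MulAut.conj g).toMonoidHom := by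
    intro g hg
    apply hpM
    have hS₁ : IsSylowIn p (S₀.map (MulAut.conj g⁻¹).toMonoidHom) M := by
      refine ⟨?_, by rw [card_map_conj]; exact hS₀.2⟩
      have := Subgroup.map_mono (f := (MulAut.conj g⁻¹).toMonoidHom) hS₀H
      rwa [hg, map_conj_mul, inv_mul_cancel, map_conj_one] at this
    have hS₁1 : S₀.map (MulAut.conj g⁻¹).toMonoidHom ≠ ⊥ := by
      intro h
      apply hS₀1
      have h2 := card_map_conj S₀ g⁻¹
      rw [h, Subgroup.card_bot] at h2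
      exact Subgroup.card_eq_one.mp h2.symm
    refine mem_sigma_of_sylIn hS₁ hS₁1 ?_
    rw [normalizer_map_conj]
    have := Subgroup.map_mono (f := (MulAut.conj g⁻¹).toMonoidHom) hNS
    rwa [hg, map_conj_mul, inv_mul_cancel, map_conj_one] at this
  have hrM : PRankLE p 1 M := pRankLE_one_of_cyclic_sylow hS₀ hcyc
  have hcH : c ∈ H := hNXH (centralizer_le_normalizer' X hcX)
  have hsH : s ∈ H := hS₀H hs
  have hsM : s ∈ M := hS₀.1 hs
  obtain ⟨k, hk⟩ := (sylIn_isPGroup hS₀) ⟨s, hs⟩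
  have hsk : s ^ p ^ k = 1 := by
    have := congrArg Subtype.val hk
    simpa using this
  have hsX : s ∈ Subgroup.centralizer (X : Set G) := by
    rw [Subgroup.mem_centralizer_iff]
    intro x hx
    obtain ⟨g, hg⟩ := hcyc.exists_generator
    obtain ⟨i, hi⟩ := Subgroup.mem_zpowers_iff.mp (hg ⟨x, hXS hx⟩)
    obtain ⟨j, hj⟩ := Subgroup.mem_zpowers_iff.mp (hg ⟨s, hs⟩)
    have h1 : (⟨x, hXS hx⟩ : ↥S₀) * ⟨s, hs⟩ = ⟨s, hs⟩ * ⟨x, hXS hx⟩ := by
      rw [← hi, ← hj, ← zpow_add, ← zpow_add, add_comm]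
    exact congrArg Subtype.val h1
  by_cases hpH : p ∈ sigma H
  · exact comm_of_sigma_case hG h1403 h1404 h1405 hM hH hnc hpM hpH hc hcH hsM hsH hsk
  · have hτ : p ∈ tau2 H := by
      refine ⟨hpp, hpH, ?_, ?_⟩
      · by_contra h
        exact hpH (Cfsg.Agent.Lib.Helper46.BG.mem_sigma_of_mem_alpha hG h1405 hH ⟨hpp, h⟩)
      · intro hr1
        obtain ⟨R, hR, hS₀R⟩ := exists_isSylowIn_ge (sylIn_isPGroup hS₀) hS₀H
        have hRr : PRankLE p 1 R :=
          (Cfsg.Agent.Lib.Helper24.pRankLE_subgroup_iff p 1 R).mpr (fun A hAR hc he =>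
            (Cfsg.Agent.Lib.Helper24.pRankLE_subgroup_iff p 1 H).mp hr1 A (hAR.trans hR.1) hc he)
        have hRc : IsCyclic R := isCyclic_of_pRankLE_one hp2 (sylIn_isPGroup hR) hRr
        have h1 := (Cfsg.Agent.Lib.Helper77.normalizer_le_normalizer_of_isCyclic hRc
          (hXS.trans hS₀R)).trans hNXH
        have hR1 : R ≠ ⊥ := fun h => hS₀1 (le_bot_iff.mp (h ▸ hS₀R))
        exact hpH (mem_sigma_of_sylIn hR hR1 h1)
    exact comm_of_tau2_case hG h1403 h1404 h1405 h1414 h1416 h1417 hM hH hnc hpM hrM hτ hX hXM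
      hc hcX hcH hsM hsH hsX hsk

/-- Statement S1427 (BG Corollary 13.3) from S1403, S1404, S1405, S1414, S1416, S1417. -/
theorem s1427_core {G : Type*} [Group G] [Finite G] (hG : Cfsg.IsMinSimpleOddOrder G)
    (h1403 : type_of% (@Cfsg.CfsgFrozen.S1403 G _ _ hG))
    (h1404 : type_of% (@Cfsg.CfsgFrozen.S1404 G _ _ hG))
    (h1405 : type_of% (@Cfsg.CfsgFrozen.S1405 G _ _ hG))
    (h1414 : type_of% (@Cfsg.CfsgFrozen.S1414 G _ _ hG))
    (h1416 : type_of% (@Cfsg.CfsgFrozen.S1416 G _ _ hG))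
    (h1417 : type_of% (@Cfsg.CfsgFrozen.S1417 G _ _ hG))
    (M : Subgroup G) (hM : IsCoatom M) (E : Subgroup G) (hE : Cfsg.IsComplIn E (Cfsg.sigmaCore M) M) (p : ℕ) [Fact p.Prime] (S : Sylow p E) (hS1 : (S : Subgroup E) ≠ ⊥) (hSc : IsCyclic (S : Subgroup E)) :
    ∀ x ∈ (S : Subgroup E).map E.subtype, x ≠ 1 →
        Cfsg.sigmaCore M ⊓ Subgroup.centralizer ({x} : Set G) = Cfsg.sigmaCore M ⊓ Subgroup.centralizer (((S : Subgroup E).map E.subtype : Subgroup G) : Set G) := by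
  have hpp : p.Prime := Fact.out
  have hHall := (Cfsg.Agent.Lib.Helper66.BG.s1350_core hG h1404 h1405 M hM).1
  have hpE : p ∣ Nat.card E :=
    (Cfsg.Agent.Lib.Helper67.BG.dvd_card_of_isPGroup_ne_bot S.isPGroup' hS1).trans
      (Subgroup.card_subgroup_dvd_card _)
  have hpM : p ∉ sigma M := by
    intro hp
    have h1 := hHall.2.2 p hpp hp
    rw [relIndex_right_of_isComplIn hE] at h1
    exact h1 hpE
  obtain ⟨S₀, hS₀def⟩ : ∃ S₀ : Subgroup G, S₀ = (S : Subgroup E).map E.subtype := ⟨_, rfl⟩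
  rw [← hS₀def]
  have hpσ' : ¬ p ∣ Nat.card (sigmaCore M) :=
    fun h => hpM (Cfsg.Agent.Lib.Helper67.BG.sigmaCore_isPi M p hpp h)
  have hS₀ : IsSylowIn p S₀ M := by
    refine ⟨?_, ?_⟩
    · rw [hS₀def]; exact (Subgroup.map_subtype_le _).trans hE.1
    · rw [hS₀def, Subgroup.card_map_of_injective E.subtype_injective, S.card_eq_multiplicity,
        Cfsg.Agent.Lib.Helper23.card_of_isComplIn hE,
        Nat.factorization_mul Nat.card_pos.ne' Nat.card_pos.ne']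
      simp [Nat.factorization_eq_zero_of_not_dvd hpσ']
  have hcyc : IsCyclic S₀ := by
    have e : ↥(S : Subgroup E) ≃* ↥S₀ := by
      rw [hS₀def]
      exact (S : Subgroup E).equivMapOfInjective E.subtype E.subtype_injective
    exact (MulEquiv.isCyclic e).mp hSc
  intro x hx hx1
  apply le_antisymm
  · rintro c ⟨hcσ, hcx⟩
    refine ⟨hcσ, ?_⟩
    -- the subgroup of order `p` in `⟨x⟩`
    obtain ⟨k, hk⟩ := (sylIn_isPGroup hS₀) ⟨x, hx⟩
    have hxk : x ^ p ^ k = 1 := by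
      have := congrArg Subtype.val hk
      simpa using this
    have hox : orderOf x ≠ 1 := fun h => hx1 (orderOf_eq_one_iff.mp h)
    have hpx : p ∣ orderOf x := by
      obtain ⟨i, -, hi2⟩ := (Nat.dvd_prime_pow hpp).mp (orderOf_dvd_of_pow_eq_one hxk)
      rw [hi2]
      rcases i with _ | i
      · rw [pow_zero] at hi2; exact absurd hi2 hox
      · exact dvd_pow_self p (Nat.succ_ne_zero i)
    obtain ⟨x₀, hx₀def⟩ : ∃ x₀ : G, x₀ = x ^ (orderOf x / p) := ⟨_, rfl⟩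
    have hx₀o : orderOf x₀ = p := by
      rw [hx₀def]; exact orderOf_pow_orderOf_div (orderOf_pos x).ne' hpx
    have hx₀S : x₀ ∈ S₀ := by rw [hx₀def]; exact Subgroup.pow_mem _ hx _
    have hXS : Subgroup.zpowers x₀ ≤ S₀ := (Subgroup.zpowers_le).mpr hx₀S
    have hXcard : Nat.card (Subgroup.zpowers x₀) = p := by rw [Nat.card_zpowers, hx₀o]
    have hcx' : c ∈ Subgroup.centralizer ((Subgroup.zpowers x₀ : Subgroup G) : Set G) := by
      have h1 : x ∈ Subgroup.centralizer ({c} : Set G) := by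
        rw [Subgroup.mem_centralizer_iff]
        intro h hh
        rw [Set.mem_singleton_iff] at hh
        rw [hh]
        exact (Subgroup.mem_centralizer_iff.mp hcx x (Set.mem_singleton x)).symm
      have h2 : x₀ ∈ Subgroup.centralizer ({c} : Set G) := by
        rw [hx₀def]; exact Subgroup.pow_mem _ h1 _
      have h3 : Subgroup.zpowers x₀ ≤ Subgroup.centralizer ({c} : Set G) :=
        (Subgroup.zpowers_le).mpr h2
      rw [Subgroup.mem_centralizer_iff]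
      intro h hh
      exact (Subgroup.mem_centralizer_iff.mp (h3 hh) c (Set.mem_singleton c)).symm
    have key := cent_le_cent_of_cyclic_sylow hG h1403 h1404 h1405 h1414 h1416 h1417 hM hpM hS₀
      hcyc hXS hXcard c hcσ hcx'
    show c ∈ Subgroup.centralizer (S₀ : Set G)
    rw [Subgroup.mem_centralizer_iff]
    intro s hs
    exact (key s hs).symm
  · rintro c ⟨hcσ, hcS⟩
    refine ⟨hcσ, ?_⟩
    exact Subgroup.centralizer_le (Set.singleton_subset_iff.mpr hx) hcS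

end Cfsg.Agent.Lib.Helper13.BG
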