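import Mathlib
import Cfsg.Statements.S1415
import Cfsg.Statements.S1423
import Cfsg.Agent.Lib.Helper13.BG.S1427Core
import Cfsg.Agent.Lib.Helper22.PComp

/-!
Bender–Glauberman Lemma 13.1(a) in general form ("Lemma X" of the S1428 project), part A
(helper13): auxiliary lemmas.
-/

set_option autoImplicit false
set_option linter.style.haveILetI false

namespace Cfsg.Agent.Lib.Helper13.BG

open Cfsg Cfsg.Agent.Lib.Helper46 Cfsg.Agent.Lib.Helper35.BG
open scoped commutatorElement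

variable {G : Type*} [Group G]

/-- CASE A: if the `p`-element `s` of `M ∩ H` lies in `H'`, then it centralizes `M_σ ∩ H`. -/
theorem comm_of_mem_commutator [Finite G] (hG : IsMinSimpleOddOrder G)
    (h1403 : type_of% (@Cfsg.CfsgFrozen.S1403 G _ _ hG))
    (h1405 : type_of% (@Cfsg.CfsgFrozen.S1405 G _ _ hG))
    {M H : Subgroup G} (hM : IsCoatom M) (hH : IsCoatom H)
    (hnc : ∀ g : G, H ≠ M.map (MulAut.conj g).toMonoidHom)
    {p : ℕ} [Fact p.Prime] (hpM : p ∉ sigma M)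
    {c s : G} (hc : c ∈ sigmaCore M) (hcH : c ∈ H) (hsM : s ∈ M) (hsH : s ∈ H)
    (hs'comm : (⟨s, hsH⟩ : ↥H) ∈ commutator ↥H)
    {k : ℕ} (hs : s ^ p ^ k = 1) : c * s = s * c := by
  have hpp : p.Prime := Fact.out
  obtain ⟨y, hydef⟩ : ∃ y : G, y = c * s * c⁻¹ * s⁻¹ := ⟨_, rfl⟩
  have hyσ : y ∈ sigmaCore M := by rw [hydef]; exact comm_mem_sigmaCore hc hsM
  have hyH : y ∈ H := by
    rw [hydef]
    exact H.mul_mem (H.mul_mem (H.mul_mem hcH hsH) (H.inv_mem hcH)) (H.inv_mem hsH)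
  obtain ⟨z, hzdef⟩ : ∃ z : G, z = y * s * y⁻¹ * s⁻¹ := ⟨_, rfl⟩
  have hzσ : z ∈ sigmaCore M := by rw [hzdef]; exact comm_mem_sigmaCore hyσ hsM
  have hycop : (orderOf y).Coprime p := orderOf_coprime_of_mem_sigmaCore hpM hyσ
  suffices hz1 : z = 1 by
    apply comm_of_comm_commutator hs (hydef ▸ hycop)
    rw [← hydef]
    have : y * s = (y * s * y⁻¹ * s⁻¹) * (s * y) := by group
    rw [this, ← hzdef, hz1, one_mul]
  by_contra hz1
  have hy'comm : (⟨y, hyH⟩ : ↥H) ∈ commutator ↥H := by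
    have e : (⟨y, hyH⟩ : ↥H) = ⁅(⟨c, hcH⟩ : ↥H), (⟨s, hsH⟩ : ↥H)⁆ := by
      apply Subtype.ext
      rw [commutatorElement_def]
      simp [hydef]
    rw [e, commutator_def]
    exact Subgroup.commutator_mem_commutator (Subgroup.mem_top _) (Subgroup.mem_top _)
  have hs'pow : (⟨s, hsH⟩ : ↥H) ^ p ^ k = 1 := Subtype.ext (by simpa using hs)
  obtain ⟨-, -, -, -, hnil⟩ := h1405 H hH
  have hcop : (orderOf (⟨y, hyH⟩ : ↥H)).Coprime (orderOf (⟨s, hsH⟩ : ↥H)) := by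
    have h1 : orderOf (⟨y, hyH⟩ : ↥H) = orderOf y := (Subgroup.orderOf_coe _).symm
    have h2 : orderOf (⟨s, hsH⟩ : ↥H) ∣ p ^ k := orderOf_dvd_of_pow_eq_one hs'pow
    rw [h1]
    exact Nat.Coprime.coprime_dvd_right h2 (Nat.Coprime.pow_right k hycop)
  have hz'K := comm_mod_of_nilpotent_image (piCore (alpha H) ↥H) hnil hy'comm hs'comm hcop
  have hz'coe : (((⟨y, hyH⟩ : ↥H) * ⟨s, hsH⟩ * (⟨y, hyH⟩ : ↥H)⁻¹ * (⟨s, hsH⟩ : ↥H)⁻¹ : ↥H) : G)
      = z := by
    rw [hzdef]; simp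
  have hoz : orderOf z ≠ 1 := fun h => hz1 (orderOf_eq_one_iff.mp h)
  obtain ⟨r, hr, hrz⟩ := Nat.exists_prime_and_dvd hoz
  have hrσ : r ∈ sigma M := mem_sigma_of_dvd_orderOf hr hzσ hrz
  have hrα : r ∈ alpha H := by
    refine Cfsg.Agent.S3743.piCore_isPi (G := ↥H) (alpha H) r hr ?_
    rw [← hz'coe, Subgroup.orderOf_coe] at hrz
    exact hrz.trans (Subgroup.orderOf_dvd_natCard _ hz'K)
  exact alpha_sigma_disjoint hG h1403 hM hH hnc hrα hrσ

/-- (F1) If `p ∉ σ(M)` and an elementary abelian subgroup of order `p ^ 2` lies in `M ∩ L` with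
`L ≠ M` maximal, then `M_σ ∩ L = 1`. -/
theorem false_of_ea_le_inter [Finite G] (hG : IsMinSimpleOddOrder G)
    (h1405 : type_of% (@Cfsg.CfsgFrozen.S1405 G _ _ hG))
    (h1417 : type_of% (@Cfsg.CfsgFrozen.S1417 G _ _ hG))
    {M L : Subgroup G} (hM : IsCoatom M) (hL : IsCoatom L) (hLM : L ≠ M)
    {p : ℕ} [Fact p.Prime] (hpM : p ∉ sigma M)
    {A : Subgroup G} (hA : IsElementaryAbelian p A) (hAcard : Nat.card A = p ^ 2)
    (hAM : A ≤ M) (hAL : A ≤ L)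
    {z : G} (hz : z ∈ sigmaCore M) (hzL : z ∈ L) (hz1 : z ≠ 1) : False := by
  have hpp : p.Prime := Fact.out
  have hp2 : PRankLE p 2 M := by
    by_contra h
    exact hpM (Cfsg.Agent.Lib.Helper46.BG.mem_sigma_of_mem_alpha hG h1405 hM ⟨hpp, h⟩)
  have hτ : p ∈ tau2 M := ⟨hpp, hpM, hp2, not_pRankLE_one_of_le hA hAcard hAM⟩
  obtain ⟨-, -, -, -, hTI, -⟩ := h1417 M hM p hτ A ⟨hAM, hA, hAcard⟩
  have h1 : z ∈ sigmaCore M ⊓ L := ⟨hz, hzL⟩
  rw [hTI L hL hLM hAL] at h1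
  exact hz1 (Subgroup.mem_bot.mp h1)

theorem mem_normalizer_inf13 {A B : Subgroup G} {s : G}
    (hA : s ∈ Subgroup.normalizer (A : Set G)) (hB : s ∈ Subgroup.normalizer (B : Set G)) :
    s ∈ Subgroup.normalizer ((A ⊓ B : Subgroup G) : Set G) := by
  rw [Subgroup.mem_normalizer_iff] at hA hB ⊢
  intro x
  rw [Subgroup.mem_inf, Subgroup.mem_inf, hA x, hB x]

/-- Coprime action: if the `r`-element `s` normalizes but does not centralize the `r'`-group `C`,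
then it normalizes but does not centralize some Sylow subgroup of `C`. -/
theorem exists_sylow_not_centralized [Finite G] {r : ℕ} [Fact r.Prime] {C : Subgroup G} {s : G}
    {k : ℕ} (hs : s ^ r ^ k = 1) (hsN : s ∈ Subgroup.normalizer (C : Set G))
    (hcop : ¬ r ∣ Nat.card C) (hnc : ¬ ∀ c ∈ C, c * s = s * c) :
    ∃ q : ℕ, q.Prime ∧ ∃ V : Subgroup G, IsSylowIn q V C ∧
      s ∈ Subgroup.normalizer (V : Set G) ∧ ¬ ∀ v ∈ V, v * s = s * v := by
  by_contra hcon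
  push Not at hcon
  apply hnc
  obtain ⟨C₀, hC₀def⟩ : ∃ C₀ : Subgroup G, C₀ = C ⊓ Subgroup.centralizer ({s} : Set G) :=
    ⟨_, rfl⟩
  have hC₀C : C₀ ≤ C := by rw [hC₀def]; exact inf_le_left
  have hC0 : Nat.card C ≠ 0 := Nat.card_pos.ne'
  have hC₀0 : Nat.card C₀ ≠ 0 := Nat.card_pos.ne'
  have hdvd : Nat.card C ∣ Nat.card C₀ := by
    rw [← Nat.factorization_prime_le_iff_dvd hC0 hC₀0]
    intro q hq
    haveI : Fact q.Prime := ⟨hq⟩
    have hnd : ¬ r ∣ Nat.card (Sylow q ↥C) := fun h => hcop (h.trans (card_sylow_dvd_card C))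
    have hP : IsPGroup r (Subgroup.zpowers s) := isPGroup_zpowers13 hs
    have hPN : Subgroup.zpowers s ≤ Subgroup.normalizer (C : Set G) :=
      (Subgroup.zpowers_le).mpr hsN
    obtain ⟨V, hV, hPV⟩ := exists_normalized_sylow (q := q) hP hPN hnd
    have hall := hcon q hq V hV (hPV (Subgroup.mem_zpowers s))
    have hVC₀ : V ≤ C₀ := by
      intro v hv
      rw [hC₀def]
      refine ⟨hV.1 hv, ?_⟩
      show v ∈ Subgroup.centralizer ({s} : Set G)
      rw [Subgroup.mem_centralizer_iff]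
      intro h hh
      rw [Set.mem_singleton_iff] at hh
      rw [hh]
      exact (hall v hv).symm
    have h1 : q ^ (Nat.card C).factorization q ∣ Nat.card C₀ := by
      rw [← hV.2]; exact Subgroup.card_dvd_of_le hVC₀
    exact (hq.pow_dvd_iff_le_factorization hC₀0).mp h1
  have heq : C₀ = C :=
    Subgroup.eq_of_le_of_card_ge hC₀C (Nat.le_of_dvd Nat.card_pos hdvd)
  intro c hc
  rw [← heq, hC₀def] at hc
  exact (Subgroup.mem_centralizer_iff.mp hc.2 s (Set.mem_singleton s)).symm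

/-- In a finite group, a normal subgroup of index prime to `r` contains all `r`-elements. -/
theorem mem_of_not_dvd_index13 {X : Type*} [Group X] [Finite X] (N : Subgroup X) [N.Normal]
    {r : ℕ} [Fact r.Prime] (hnd : ¬ r ∣ N.index) {x : X} {k : ℕ} (hx : x ^ r ^ k = 1) :
    x ∈ N := by
  have hr : r.Prime := Fact.out
  rw [← QuotientGroup.eq_one_iff]
  have h1 : orderOf (x : X ⧸ N) ∣ r ^ k := by
    apply orderOf_dvd_of_pow_eq_one
    rw [← QuotientGroup.mk_pow, hx, QuotientGroup.mk_one]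
  have h2 : orderOf (x : X ⧸ N) ∣ N.index := by
    rw [Subgroup.index_eq_card]; exact orderOf_dvd_natCard _
  have h3 : (r ^ k).Coprime N.index :=
    Nat.Coprime.pow_left k ((Nat.Prime.coprime_iff_not_dvd hr).mpr hnd)
  have h4 : orderOf (x : X ⧸ N) = 1 := Nat.eq_one_of_dvd_coprimes h3 h1 h2
  exact orderOf_eq_one_iff.mp h4

/-- (F3) From BG 10.8 (S1414): if `q ∉ β(M)` and `q < r`, then an `r`-element of `M` centralizes
every `q`-subgroup of `M` that it normalizes. -/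
theorem comm_of_lt_of_not_beta [Finite G] (hG : IsMinSimpleOddOrder G)
    (h1414 : type_of% (@Cfsg.CfsgFrozen.S1414 G _ _ hG))
    {M : Subgroup G} (hM : IsCoatom M) {q r : ℕ} [Fact q.Prime] [Fact r.Prime]
    (hqM : q ∣ Nat.card M) (hqβ : q ∉ beta M) (hqr : q < r)
    {V : Subgroup G} (hVq : IsPGroup q V) (hVM : V ≤ M) {s : G} (hsM : s ∈ M) {k : ℕ}
    (hs : s ^ r ^ k = 1) (hsV : s ∈ Subgroup.normalizer (V : Set G)) :
    ∀ v ∈ V, v * s = s * v := by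
  have hqp : q.Prime := Fact.out
  have hrp : r.Prime := Fact.out
  obtain ⟨-, -, -, -, h5⟩ := h1414 M hM
  obtain ⟨-, -, h6⟩ := h5 q hqp hqM hqβ
  have hnd : ¬ r ∣ (pPrimeCore q ↥M).index := fun h => absurd (h6 r hrp h) (by omega)
  haveI : (pPrimeCore q ↥M).Normal := Cfsg.Agent.Lib.Helper22.pPrimeCore_normal' q ↥M
  have hs' : (⟨s, hsM⟩ : ↥M) ^ r ^ k = 1 := Subtype.ext (by simpa using hs)
  have hsN : (⟨s, hsM⟩ : ↥M) ∈ pPrimeCore q ↥M := mem_of_not_dvd_index13 _ hnd hs'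
  intro v hv
  obtain ⟨w, hwdef⟩ : ∃ w : G, w = v * s * v⁻¹ * s⁻¹ := ⟨_, rfl⟩
  have hwV : w ∈ V := by
    have h1 : s * v⁻¹ * s⁻¹ ∈ V :=
      (Subgroup.mem_normalizer_iff.mp hsV v⁻¹).mp (V.inv_mem hv)
    have e : w = v * (s * v⁻¹ * s⁻¹) := by rw [hwdef]; group
    rw [e]; exact V.mul_mem hv h1
  have hwM : w ∈ M := hVM hwV
  have hwN : (⟨w, hwM⟩ : ↥M) ∈ pPrimeCore q ↥M := by
    have e : (⟨w, hwM⟩ : ↥M) =
        (⟨v, hVM hv⟩ * ⟨s, hsM⟩ * (⟨v, hVM hv⟩ : ↥M)⁻¹) * (⟨s, hsM⟩ : ↥M)⁻¹ := by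
      apply Subtype.ext
      simp [hwdef]
    rw [e]
    exact Subgroup.mul_mem _ (Subgroup.Normal.conj_mem inferInstance _ hsN _)
      (Subgroup.inv_mem _ hsN)
  have ho1 : orderOf w ∣ Nat.card (pPrimeCore q ↥M) := by
    have : orderOf (⟨w, hwM⟩ : ↥M) = orderOf w := (Subgroup.orderOf_coe _).symm
    rw [← this]
    exact Subgroup.orderOf_dvd_natCard _ hwN
  obtain ⟨j, hj⟩ := hVq ⟨w, hwV⟩
  have hwj : w ^ q ^ j = 1 := by
    have := congrArg Subtype.val hj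
    simpa using this
  have hcop : (orderOf w).Coprime q :=
    Nat.Coprime.coprime_dvd_left ho1 (Cfsg.Agent.Lib.Helper22.card_pPrimeCore_coprime q ↥M)
  have hw1 : w = 1 := Cfsg.Agent.Lib.Helper54.eq_one_of_coprime_of_pow_eq_one hcop hwj
  rw [hwdef] at hw1
  have : v * s = (v * s * v⁻¹ * s⁻¹) * (s * v) := by group
  rw [this, hw1, one_mul]

end Cfsg.Agent.Lib.Helper13.BG
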