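import Mathlib
import Cfsg.Agent.Lib.Helper13.BG.LemXA
import Cfsg.Agent.Lib.Helper76.BG.S1420Core
import Cfsg.Agent.Lib.Helper67.BG.HallUtil

/-!
Bender–Glauberman Lemma 13.1(a) in general form ("Lemma X" of the S1428 project; paper proof by
helper52, note 1721), helper13.

`lemX`: let `M`, `H` be non-conjugate maximal subgroups, `r ∉ σ(M)`, `r ∉ τ₁(H)`.  Then every
`r`-element of `M ∩ H` centralizes `M_σ ∩ H`.

Hypotheses (types only): S1403, S1404, S1405, S1414, S1415, S1416, S1417, S1423.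
-/

set_option autoImplicit false
set_option linter.style.haveILetI false

namespace Cfsg.Agent.Lib.Helper13.BG

open Cfsg Cfsg.Agent.Lib.Helper46 Cfsg.Agent.Lib.Helper35.BG
open scoped commutatorElement

variable {G : Type*} [Group G]

/-- CASE B: `r ∈ τ₂(H)`. -/
theorem comm_of_tau2_general [Finite G] (hG : IsMinSimpleOddOrder G)
    (h1403 : type_of% (@Cfsg.CfsgFrozen.S1403 G _ _ hG))
    (h1404 : type_of% (@Cfsg.CfsgFrozen.S1404 G _ _ hG))
    (h1405 : type_of% (@Cfsg.CfsgFrozen.S1405 G _ _ hG))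
    (h1414 : type_of% (@Cfsg.CfsgFrozen.S1414 G _ _ hG))
    (h1416 : type_of% (@Cfsg.CfsgFrozen.S1416 G _ _ hG))
    (h1417 : type_of% (@Cfsg.CfsgFrozen.S1417 G _ _ hG))
    (h1423 : type_of% (@Cfsg.CfsgFrozen.S1423 G _ _ hG))
    {M H : Subgroup G} (hM : IsCoatom M) (hH : IsCoatom H)
    (hnc : ∀ g : G, H ≠ M.map (MulAut.conj g).toMonoidHom)
    {r : ℕ} [Fact r.Prime] (hrM : r ∉ sigma M) (hrH : r ∈ tau2 H)
    {c s : G} (hc : c ∈ sigmaCore M) (hcH : c ∈ H) (hsM : s ∈ M) (hsH : s ∈ H)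
    {k : ℕ} (hs : s ^ r ^ k = 1) : c * s = s * c := by
  classical
  by_contra hne
  have hrp : r.Prime := Fact.out
  have hc1 : c ≠ 1 := by
    rintro rfl
    exact hne (by rw [one_mul, mul_one])
  obtain ⟨y, hydef⟩ : ∃ y : G, y = c * s * c⁻¹ * s⁻¹ := ⟨_, rfl⟩
  have hyσ : y ∈ sigmaCore M := by rw [hydef]; exact comm_mem_sigmaCore hc hsM
  have hyH : y ∈ H := by
    rw [hydef]
    exact H.mul_mem (H.mul_mem (H.mul_mem hcH hsH) (H.inv_mem hcH)) (H.inv_mem hsH)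
  -- `H_σ` is nilpotent, so `σ(M) ∩ σ(H) = ∅`
  obtain ⟨A₀, hA₀H, hA₀, hA₀card⟩ :=
    Cfsg.Agent.Lib.Helper20.BG.exists_ea_sq H r hrH.2.2.1 hrH.2.2.2
  obtain ⟨hnilH, -⟩ := h1417 H hH r hrH A₀ ⟨hA₀H, hA₀, hA₀card⟩
  have hdisj : ∀ t : ℕ, t ∈ sigma H → t ∈ sigma M → False := fun t h1 h2 =>
    sigma_disjoint_of_nilpotent hG h1404 h1405 hM hH hnc hnilH h1 h2
  -- the subgroup `W`
  obtain ⟨W, hWdef⟩ : ∃ W : Subgroup G, W = (sigmaCore M ⊔ Subgroup.zpowers s) ⊓ H := ⟨_, rfl⟩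
  have hcW : c ∈ W := by
    rw [hWdef]; exact ⟨Subgroup.mem_sup_left hc, hcH⟩
  have hsW : s ∈ W := by
    rw [hWdef]; exact ⟨Subgroup.mem_sup_right (Subgroup.mem_zpowers s), hsH⟩
  have hWH : W ≤ H := by rw [hWdef]; exact inf_le_right
  have hWcop : (Nat.card W).Coprime (Nat.card (sigmaCore H)) := by
    by_contra hnc'
    obtain ⟨t, ht, ht1, ht2⟩ := Nat.Prime.not_coprime_iff_dvd.mp hnc'
    have htH : t ∈ sigma H := Cfsg.Agent.Lib.Helper67.BG.sigmaCore_isPi H t ht ht2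
    have h0 : Nat.card W ∣ Nat.card (sigmaCore M ⊔ Subgroup.zpowers s : Subgroup G) := by
      rw [hWdef]; exact Subgroup.card_dvd_of_le inf_le_left
    have h1 : t ∣ Nat.card (Subgroup.zpowers s) * Nat.card (sigmaCore M) := by
      have h3 := card_sup_sigmaCore_dvd (K := Subgroup.zpowers s) (M := M)
        ((Subgroup.zpowers_le).mpr hsM)
      rw [sup_comm] at h3
      exact (ht1.trans h0).trans h3
    rcases (Nat.Prime.dvd_mul ht).mp h1 with h2 | h2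
    · have : t = r := Cfsg.Agent.Lib.Helper67.BG.prime_eq_of_dvd_card_isPGroup
        (isPGroup_zpowers13 hs) ht h2
      exact hrH.2.1 (this ▸ htH)
    · exact hdisj t htH (Cfsg.Agent.Lib.Helper67.BG.sigmaCore_isPi M t ht h2)
  obtain ⟨A₁, hA₁H, hA₁, hA₁card, hcent⟩ :=
    exists_ea_centralized hG h1404 h1405 h1417 hH hrH W hWH hWcop
  -- (F1) `A₁ ⊄ M`
  have hHM : H ≠ M := by
    intro h
    apply hnc 1
    rw [h, map_conj_one]
  have hA₁M : ¬ A₁ ≤ M := fun h =>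
    false_of_ea_le_inter hG h1405 h1417 hM hH hHM hrM hA₁ hA₁card h hA₁H hc hcH hc1
  -- `y` centralizes `A₁`
  have hu1 : c * s * c⁻¹ ∈ Subgroup.centralizer (A₁ : Set G) :=
    hcent _ (W.mul_mem (W.mul_mem hcW hsW) (W.inv_mem hcW)) k (by rw [conj_pow, hs]; group)
  have hsA : s ∈ Subgroup.centralizer (A₁ : Set G) := hcent s hsW k hs
  have hyA : y ∈ Subgroup.centralizer (A₁ : Set G) := by
    rw [hydef]; exact Subgroup.mul_mem _ hu1 (Subgroup.inv_mem _ hsA)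
  -- the subgroup `C = C_{M_σ ∩ H}(A₁)`, normalized by `s`
  obtain ⟨C, hCdef⟩ : ∃ C : Subgroup G,
      C = (sigmaCore M ⊓ H) ⊓ Subgroup.centralizer (A₁ : Set G) := ⟨_, rfl⟩
  have hCσ : C ≤ sigmaCore M := by rw [hCdef]; exact inf_le_left.trans inf_le_left
  have hCA : C ≤ Subgroup.centralizer (A₁ : Set G) := by rw [hCdef]; exact inf_le_right
  have hyC : y ∈ C := by rw [hCdef]; exact ⟨⟨hyσ, hyH⟩, hyA⟩
  have hsC : s ∈ Subgroup.normalizer (C : Set G) := by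
    rw [hCdef]
    exact mem_normalizer_inf13
      (mem_normalizer_inf13 (Cfsg.Agent.Lib.Helper67.BG.sigmaCore_normalizer M hsM)
        (Subgroup.le_normalizer hsH)) (Subgroup.le_normalizer hsA)
  have hCnc : ¬ ∀ x ∈ C, x * s = s * x := by
    intro hall
    apply hne
    apply comm_of_comm_commutator hs (hydef ▸ orderOf_coprime_of_mem_sigmaCore hrM hyσ)
    rw [← hydef]
    exact hall y hyC
  have hrC : ¬ r ∣ Nat.card C := fun h =>
    hrM (Cfsg.Agent.Lib.Helper67.BG.sigmaCore_isPi M r hrp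
      (h.trans (Subgroup.card_dvd_of_le hCσ)))
  obtain ⟨q, hq, V, hVsyl, hsV, hVnc⟩ := exists_sylow_not_centralized hs hsC hrC hCnc
  haveI : Fact q.Prime := ⟨hq⟩
  have hVq : IsPGroup q V := sylIn_isPGroup hVsyl
  have hVσ : V ≤ sigmaCore M := hVsyl.1.trans hCσ
  have hVM : V ≤ M := hVσ.trans (Cfsg.Agent.Lib.Helper67.BG.sigmaCore_le M)
  have hV1 : V ≠ ⊥ := by
    rintro rfl
    apply hVnc
    intro v hv
    rw [Subgroup.mem_bot.mp hv, one_mul, mul_one]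
  have hqσ : q ∈ sigma M := Cfsg.Agent.Lib.Helper67.BG.sigmaCore_isPi M q hq
    ((Cfsg.Agent.Lib.Helper67.BG.dvd_card_of_isPGroup_ne_bot hVq hV1).trans
      (Subgroup.card_dvd_of_le hVσ))
  have hrq : r ≠ q := fun h => hrM (h ▸ hqσ)
  have hA₁V : A₁ ≤ Subgroup.centralizer (V : Set G) :=
    Subgroup.le_centralizer_iff.mp (hVsyl.1.trans hCA)
  obtain ⟨v₀, hv₀V, hv₀1⟩ : ∃ v₀ ∈ V, v₀ ≠ 1 := by
    by_contra hcon
    push Not at hcon
    exact hV1 ((Subgroup.eq_bot_iff_forall V).mpr hcon)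
  -- (4) `q ∉ β(M)`
  have hqβ : q ∉ beta M := by
    intro hβ
    obtain ⟨x, hx⟩ := exists_prime_orderOf_dvd_card' (G := ↥V) q
      (Cfsg.Agent.Lib.Helper67.BG.dvd_card_of_isPGroup_ne_bot hVq hV1)
    have hxo : orderOf (x : G) = q := by rw [Subgroup.orderOf_coe]; exact hx
    have hXV : Subgroup.zpowers (x : G) ≤ V := (Subgroup.zpowers_le).mpr x.2
    have hXcard : Nat.card (Subgroup.zpowers (x : G)) = q := by rw [Nat.card_zpowers, hxo]
    have P : Sylow q ↥(sigmaCore M) := default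
    obtain ⟨⟨hCX, -⟩, -, -⟩ := h1423 M hM q hqσ (Subgroup.zpowers (x : G)) (hXV.trans hVM)
      hXcard P (Or.inl hβ)
    exact hA₁M ((hA₁V.trans (Subgroup.centralizer_le hXV)).trans hCX)
  -- (5) `r < q`
  have hlt : r < q := by
    by_contra hnlt
    have hqr : q < r := lt_of_le_of_ne (not_lt.mp hnlt) (Ne.symm hrq)
    exact hVnc (comm_of_lt_of_not_beta hG h1414 hM hqσ.2.1 hqβ hqr hVq hVM hsM hs hsV)
  -- (6) the maximal subgroup `L ⊇ N_G(V)`
  have hVtop : V ≠ ⊤ := fun h => hM.1 (top_le_iff.mp (h ▸ hVM))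
  obtain ⟨L, hL, hNVL⟩ := exists_coatom_ge (normalizer_ne_top hG hV1 hVtop)
  have hA₁L : A₁ ≤ L := (hA₁V.trans (centralizer_le_normalizer' V)).trans hNVL
  have hsL : s ∈ L := hNVL hsV
  have hVL : V ≤ L := Subgroup.le_normalizer.trans hNVL
  have hLM : L ≠ M := fun h => hA₁M (h ▸ hA₁L)
  obtain ⟨T0, hT0⟩ := (hVq.comap_subtype (K := M ⊓ L)).exists_le_sylow
  have hVT : V ≤ (T0 : Subgroup ↥(M ⊓ L)).map (M ⊓ L).subtype := by
    intro x hx
    exact ⟨⟨x, ⟨hVM hx, hVL hx⟩⟩, hT0 (Subgroup.mem_subgroupOf.mpr hx), rfl⟩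
  obtain ⟨hncL, hNT, hTidx⟩ := Cfsg.Agent.Lib.Helper2.BG.s1424_core hG h1404 h1416 M hM q hqσ V
    hVq hV1 hVM L hL hLM hNVL T0 hVT
  obtain ⟨T, hTdef⟩ : ∃ T : Subgroup G, T = (T0 : Subgroup ↥(M ⊓ L)).map (M ⊓ L).subtype :=
    ⟨_, rfl⟩
  rw [← hTdef] at hVT hNT hTidx
  have hTML : T ≤ M ⊓ L := by rw [hTdef]; exact Subgroup.map_subtype_le _
  have hTq : IsPGroup q T := by rw [hTdef]; exact T0.isPGroup'.map _
  have hTsyl : IsSylowIn q T L :=
    isSylowIn_of_not_dvd_relIndex hTq (hTML.trans inf_le_right) hTidx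
  -- (7) `r ∈ τ₂(L)`
  have hrL : r ∉ sigma L := by
    intro hrσ
    apply hVnc
    intro v hv
    exact comm_of_sigma_case hG h1403 h1404 h1405 hM hL hncL hrM hrσ (hVσ hv) (hVL hv) hsM hsL hs
  have hr2L : PRankLE r 2 L := by
    by_contra h
    exact hrL (Cfsg.Agent.Lib.Helper46.BG.mem_sigma_of_mem_alpha hG h1405 hL ⟨hrp, h⟩)
  have hrτ : r ∈ tau2 L := ⟨hrp, hrL, hr2L, not_pRankLE_one_of_le hA₁ hA₁card hA₁L⟩
  -- (8)
  obtain ⟨hnilL, -, hNp, -, -, -⟩ := h1417 L hL r hrτ A₁ ⟨hA₁L, hA₁, hA₁card⟩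
  have hqL : q ∉ sigma L := fun h =>
    sigma_disjoint_of_nilpotent hG h1404 h1405 hM hL hncL hnilL h hqσ
  have hσL : sigmaCore L ≤ L := Cfsg.Agent.Lib.Helper67.BG.sigmaCore_le L
  have hσ0 : Nat.card (sigmaCore L) ≠ 0 := Nat.card_pos.ne'
  have hqσ' : ¬ q ∣ Nat.card (sigmaCore L) :=
    fun h => hqL (Cfsg.Agent.Lib.Helper67.BG.sigmaCore_isPi L q hq h)
  have hrσ' : ¬ r ∣ Nat.card (sigmaCore L) :=
    fun h => hrL (Cfsg.Agent.Lib.Helper67.BG.sigmaCore_isPi L r hrp h)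
  have hcardNp : Nat.card (sigmaCore L ⊔ A₁ : Subgroup G) ∣ r ^ 2 * Nat.card (sigmaCore L) := by
    have := card_sup_sigmaCore_dvd hA₁L
    rwa [sup_comm, hA₁card] at this
  have hA₁syl : IsSylowIn r A₁ (sigmaCore L ⊔ A₁) := by
    refine ⟨le_sup_right, ?_⟩
    rw [hA₁card]
    congr 1
    symm
    exact factorization_eq_of_dvd_mul hrp
      (by rw [← hA₁card]; exact Subgroup.card_dvd_of_le le_sup_right) hcardNp hrσ' hσ0
  have hnd2 : ¬ q ∣ Nat.card (Sylow r ↥(sigmaCore L ⊔ A₁ : Subgroup G)) := by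
    intro h
    have h1 := (h.trans (card_sylow_dvd_card _)).trans hcardNp
    rcases (Nat.Prime.dvd_mul hq).mp h1 with h2 | h2
    · exact hrq ((Nat.prime_dvd_prime_iff_eq hq hrp).mp (hq.dvd_of_dvd_pow h2)).symm
    · exact hqσ' h2
  obtain ⟨n', hn', hTn⟩ := exists_conj_normalized hTq (hTsyl.1.trans hNp) hA₁syl hnd2
  have hn'L : n' ∈ L := (sup_le hσL hA₁L) hn'
  have hA₃ea := ea_map_conj hA₁ n'
  have hA₃card : Nat.card (A₁.map (MulAut.conj n').toMonoidHom) = r ^ 2 := by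
    rw [card_map_conj, hA₁card]
  have hA₃L : A₁.map (MulAut.conj n').toMonoidHom ≤ L := by
    rintro _ ⟨a, ha, rfl⟩
    simp only [MulEquiv.coe_toMonoidHom, MulAut.conj_apply]
    exact L.mul_mem (L.mul_mem hn'L (hA₁L ha)) (L.inv_mem hn'L)
  have hT1 : T ≠ ⊥ := fun h => hV1 (le_bot_iff.mp (h ▸ hVT))
  have hr2 : r ≠ 2 := prime_ne_two13 hG (X := A₁)
    (by rw [hA₁card]; exact dvd_pow_self r (by norm_num))
  have hq2 : q ≠ 2 := prime_ne_two13 hG (X := T)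
    (Cfsg.Agent.Lib.Helper67.BG.dvd_card_of_isPGroup_ne_bot hTq hT1)
  have hTc : T ≤ Subgroup.centralizer
      ((A₁.map (MulAut.conj n').toMonoidHom : Subgroup G) : Set G) := by
    by_contra hnc'
    have := prime_lt_of_not_centralize hq2 hr2 (Ne.symm hrq) hTq hA₃ea hA₃card hTn hnc'
    omega
  have h5 : A₁.map (MulAut.conj n').toMonoidHom ≤ Subgroup.centralizer (T : Set G) :=
    Subgroup.le_centralizer_iff.mp hTc
  have hA₃M : A₁.map (MulAut.conj n').toMonoidHom ≤ M :=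
    h5.trans ((centralizer_le_normalizer' T).trans hNT)
  exact false_of_ea_le_inter hG h1405 h1417 hM hL hLM hrM hA₃ea hA₃card hA₃M hA₃L
    (hVσ hv₀V) (hVL hv₀V) hv₀1

/-- **Lemma X** (BG 13.1(a), general form).  Let `M`, `H` be non-conjugate maximal subgroups,
`r ∉ σ(M)` and `r ∉ τ₁(H)`.  Then every `r`-element `s` of `M ∩ H` centralizes `M_σ ∩ H`. -/
theorem lemX [Finite G] (hG : IsMinSimpleOddOrder G)
    (h1403 : type_of% (@Cfsg.CfsgFrozen.S1403 G _ _ hG))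
    (h1404 : type_of% (@Cfsg.CfsgFrozen.S1404 G _ _ hG))
    (h1405 : type_of% (@Cfsg.CfsgFrozen.S1405 G _ _ hG))
    (h1414 : type_of% (@Cfsg.CfsgFrozen.S1414 G _ _ hG))
    (h1415 : type_of% (@Cfsg.CfsgFrozen.S1415 G _ _ hG))
    (h1416 : type_of% (@Cfsg.CfsgFrozen.S1416 G _ _ hG))
    (h1417 : type_of% (@Cfsg.CfsgFrozen.S1417 G _ _ hG))
    (h1423 : type_of% (@Cfsg.CfsgFrozen.S1423 G _ _ hG))
    {M H : Subgroup G} (hM : IsCoatom M) (hH : IsCoatom H)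
    (hnc : ∀ g : G, H ≠ M.map (MulAut.conj g).toMonoidHom)
    {r : ℕ} [Fact r.Prime] (hrM : r ∉ sigma M) (hrH : r ∉ tau1 H)
    {c s : G} (hc : c ∈ sigmaCore M) (hcH : c ∈ H) (hsM : s ∈ M) (hsH : s ∈ H)
    {k : ℕ} (hs : s ^ r ^ k = 1) : c * s = s * c := by
  have hrp : r.Prime := Fact.out
  by_cases hs1 : s = 1
  · rw [hs1, one_mul, mul_one]
  have hos : orderOf s ≠ 1 := fun h => hs1 (orderOf_eq_one_iff.mp h)
  have hrs : r ∣ orderOf s := by
    obtain ⟨i, -, hi2⟩ := (Nat.dvd_prime_pow hrp).mp (orderOf_dvd_of_pow_eq_one hs)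
    rw [hi2]
    rcases i with _ | i
    · rw [pow_zero] at hi2; exact absurd hi2 hos
    · exact dvd_pow_self r (Nat.succ_ne_zero i)
  have hrdvd : r ∣ Nat.card H := hrs.trans (Subgroup.orderOf_dvd_natCard H hsH)
  by_cases hσ : r ∈ sigma H
  · exact comm_of_sigma_case hG h1403 h1404 h1405 hM hH hnc hrM hσ hc hcH hsM hsH hs
  have hr2H : PRankLE r 2 H := by
    by_contra h
    exact hσ (Cfsg.Agent.Lib.Helper46.BG.mem_sigma_of_mem_alpha hG h1405 hH ⟨hrp, h⟩)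
  by_cases hr1 : PRankLE r 1 H
  · -- `r ∈ τ₃(H)`
    have hdvd' : r ∣ Nat.card ↥⁅H, H⁆ := by
      by_contra h
      exact hrH ⟨hrp, hσ, hrdvd, h, hr1⟩
    have hτ3 : r ∈ tau3 H := ⟨hrp, hσ, hdvd', hr1⟩
    have hHall := (Cfsg.Agent.Lib.Helper66.BG.s1350_core hG h1404 h1405 H hH).1
    have hZH : Subgroup.zpowers s ≤ H := (Subgroup.zpowers_le).mpr hsH
    have hZr : ∀ t : ℕ, t.Prime → t ∣ Nat.card (Subgroup.zpowers s) → t = r := fun t ht hdvd =>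
      Cfsg.Agent.Lib.Helper67.BG.prime_eq_of_dvd_card_isPGroup (isPGroup_zpowers13 hs) ht hdvd
    obtain ⟨E, hE, hsE⟩ := Cfsg.Agent.Lib.Helper76.BG.exists_compl_ge hG H hH hHall
      (Subgroup.zpowers s) hZH (fun t ht hdvd => by rw [hZr t ht hdvd]; exact hσ)
    haveI : Group.IsSolvable ↥H := isSolvable_of_ne_top hG hH.1
    have hsolvE : Group.IsSolvable ↥E := by
      have hEtop : E ≠ ⊤ := fun h => hH.1 (top_le_iff.mp (h ▸ hE.1))
      exact isSolvable_of_ne_top hG hEtop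
    obtain ⟨E₃, hE₃, hsE₃⟩ := Cfsg.Agent.Lib.Helper67.BG.exists_piHallOf_ge (tau3 H) E hsolvE
      (Subgroup.zpowers s) hsE (fun t ht hdvd => by rw [hZr t ht hdvd]; exact hτ3)
    obtain ⟨-, -, h3⟩ := h1415 H hH E hE
    obtain ⟨-, hE₃E', -⟩ := h3 E₃ hE₃
    have hsH' : s ∈ ⁅H, H⁆ :=
      Subgroup.commutator_mono hE.1 hE.1 (hE₃E' (hsE₃ (Subgroup.mem_zpowers s)))
    have hs' : (⟨s, hsH⟩ : ↥H) ∈ commutator ↥H := by
      rw [← map_commutator_subtype] at hsH'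
      obtain ⟨x, hx, hxs⟩ := hsH'
      have : x = ⟨s, hsH⟩ := Subtype.ext hxs
      rwa [this] at hx
    exact comm_of_mem_commutator hG h1403 h1405 hM hH hnc hrM hc hcH hsM hsH hs' hs
  · exact comm_of_tau2_general hG h1403 h1404 h1405 h1414 h1416 h1417 h1423 hM hH hnc hrM
      ⟨hrp, hσ, hr2H, hr1⟩ hc hcH hsM hsH hs

end Cfsg.Agent.Lib.Helper13.BG
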