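import Mathlib
import Cfsg.Agent.Lib.Helper13.BG.LemX
import Cfsg.Agent.Lib.Helper24.CyclicP
import Cfsg.Agent.Lib.Helper95.BG.S1428Defs

/-!
S1428 project (helper95), package X in package form (helper13):
`lemX_pkg : Cfsg.Agent.Lib.Helper95.BG28.LemX`.

For elements `s` with `s ^ r = 1` the `τ₃`-case needs no S1415: the Sylow `r`-subgroups of `H`
are cyclic and `r ∣ |H'|`, so every element of order `r` lies in `H'`.
-/

set_option autoImplicit false
set_option linter.style.haveILetI false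

namespace Cfsg.Agent.Lib.Helper13.BG

open Cfsg Cfsg.Agent.Lib.Helper46 Cfsg.Agent.Lib.Helper35.BG
open scoped commutatorElement

universe u

/-- If `H` has `r`-rank at most one (`r` odd) and `r ∣ |H'|`, every `s ∈ H` with `s ^ r = 1`
lies in `H'`. -/
theorem mem_commutator_of_rank_one {G : Type*} [Group G] [Finite G] {r : ℕ} [Fact r.Prime]
    (hr2 : r ≠ 2) {H : Subgroup G} (hr1 : PRankLE r 1 H) (hdvd : r ∣ Nat.card ↥⁅H, H⁆)
    {s : G} (hsH : s ∈ H) (hs : s ^ r = 1) : s ∈ ⁅H, H⁆ := by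
  classical
  have hrp : r.Prime := Fact.out
  obtain ⟨x, hx⟩ := exists_prime_orderOf_dvd_card' (G := ↥(⁅H, H⁆ : Subgroup G)) r hdvd
  have hxo : orderOf (x : G) = r := by rw [Subgroup.orderOf_coe]; exact hx
  have hs' : s ^ r ^ 1 = 1 := by rw [pow_one]; exact hs
  obtain ⟨R, hR, hsR⟩ :=
    exists_isSylowIn_ge (isPGroup_zpowers13 hs') ((Subgroup.zpowers_le).mpr hsH)
  have hx' : (x : G) ^ r ^ 1 = 1 := by rw [pow_one, ← hxo]; exact pow_orderOf_eq_one _
  have hxH : (x : G) ∈ H := commutator_le_self13 H x.2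
  obtain ⟨R', hR', hxR'⟩ :=
    exists_isSylowIn_ge (isPGroup_zpowers13 hx') ((Subgroup.zpowers_le).mpr hxH)
  obtain ⟨g, hg, hRR'⟩ := hR'.exists_conj hR
  -- `x' = g x g⁻¹ ∈ R ∩ H'`
  obtain ⟨x', hx'def⟩ : ∃ x' : G, x' = g * x * g⁻¹ := ⟨_, rfl⟩
  have hx'R : x' ∈ R := by
    rw [hRR', hx'def]
    exact ⟨x, hxR' (Subgroup.mem_zpowers _), by simp⟩
  have hx'o : orderOf x' = r := by
    have h1 : orderOf ((MulAut.conj g) (x : G)) = orderOf (x : G) := MulEquiv.orderOf_eq _ _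
    rw [MulAut.conj_apply] at h1
    rw [hx'def, h1, hxo]
  have hx'H' : x' ∈ ⁅H, H⁆ := by
    have h1 := le_normalizer_commutator13 H hg
    rw [hx'def]
    exact (Subgroup.mem_normalizer_iff.mp h1 x).mp x.2
  have hRr : PRankLE r 1 R :=
    (Cfsg.Agent.Lib.Helper24.pRankLE_subgroup_iff r 1 R).mpr (fun A hAR hc he =>
      (Cfsg.Agent.Lib.Helper24.pRankLE_subgroup_iff r 1 H).mp hr1 A (hAR.trans hR.1) hc he)
  haveI hRc : IsCyclic R := isCyclic_of_pRankLE_one hr2 (sylIn_isPGroup hR) hRr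
  have hsR' : s ∈ R := hsR (Subgroup.mem_zpowers s)
  have h2 : (⟨s, hsR'⟩ : ↥R) ∈ Subgroup.zpowers (⟨x', hx'R⟩ : ↥R) := by
    apply Cfsg.Agent.Lib.Helper24.mem_zpowers_of_orderOf_eq_prime hrp
    · rw [← hx'o]; exact (Subgroup.orderOf_coe (⟨x', hx'R⟩ : ↥R)).symm
    · exact Subtype.ext (by simpa using hs)
  obtain ⟨i, hi⟩ := Subgroup.mem_zpowers_iff.mp h2
  have h3 : x' ^ i = s := by
    have := congrArg Subtype.val hi
    simpa using this
  rw [← h3]
  exact Subgroup.zpow_mem _ hx'H' i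

/-- Package X of the S1428 project. -/
theorem lemX_pkg : Cfsg.Agent.Lib.Helper95.BG28.LemX.{u} := by
  intro G _ _ hG hy M H hM hH hnc r hr hrM hrH c s hc hcH hsM hsH hs
  haveI : Fact r.Prime := ⟨hr⟩
  have hs' : s ^ r ^ 1 = 1 := by rw [pow_one]; exact hs
  by_cases hs1 : s = 1
  · rw [hs1, one_mul, mul_one]
  have hos : orderOf s = r := by
    rcases (Nat.dvd_prime hr).mp (orderOf_dvd_of_pow_eq_one hs) with h | h
    · exact absurd (orderOf_eq_one_iff.mp h) hs1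
    · exact h
  have hrdvd : r ∣ Nat.card H := by
    rw [← hos]; exact Subgroup.orderOf_dvd_natCard H hsH
  by_cases hσ : r ∈ sigma H
  · exact comm_of_sigma_case hG hy.h1403 hy.h1404 hy.h1405 hM hH hnc hrM hσ hc hcH hsM hsH hs'
  have hr2H : PRankLE r 2 H := by
    by_contra h
    exact hσ (Cfsg.Agent.Lib.Helper46.BG.mem_sigma_of_mem_alpha hG hy.h1405 hH ⟨hr, h⟩)
  by_cases hr1 : PRankLE r 1 H
  · have hdvd' : r ∣ Nat.card ↥⁅H, H⁆ := by
      by_contra h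
      exact hrH ⟨hr, hσ, hrdvd, h, hr1⟩
    have hr2 : r ≠ 2 := prime_ne_two13 hG hrdvd
    have hsH' : s ∈ ⁅H, H⁆ := mem_commutator_of_rank_one hr2 hr1 hdvd' hsH hs
    have hs'' : (⟨s, hsH⟩ : ↥H) ∈ commutator ↥H := by
      rw [← map_commutator_subtype] at hsH'
      obtain ⟨x, hx, hxs⟩ := hsH'
      have : x = ⟨s, hsH⟩ := Subtype.ext hxs
      rwa [this] at hx
    exact comm_of_mem_commutator hG hy.h1403 hy.h1405 hM hH hnc hrM hc hcH hsM hsH hs'' hs'
  · exact comm_of_tau2_general hG hy.h1403 hy.h1404 hy.h1405 hy.h1414 hy.h1416 hy.h1417 hy.h1423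
      hM hH hnc hrM ⟨hr, hσ, hr2H, hr1⟩ hc hcH hsM hsH hs'

end Cfsg.Agent.Lib.Helper13.BG
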