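import Mathlib
import Cfsg.Agent.Lib.Helper13.BG.S1428X

/-!
S1428 project (helper95), package B1 (helper13): `lemB1 : Cfsg.Agent.Lib.Helper95.BG28.LemB1`.

Setting: `p ∈ τ₁(M)`, `P ≤ M` of order `p`, `k ∈ C_{M_σ}(P)`, `ρ ∈ C_M(P)` an `r`-element with
`r ∉ σ(M)` and `k ρ ≠ ρ k`; `H` a maximal subgroup containing `k`, `ρ`, not conjugate to `M`.
Then `p ∉ τ₂(H)`.

Proof.  Suppose `p ∈ τ₂(H)`.  Then `r ∉ σ(H)` (`comm_of_sigma_case`), `H_σ` is nilpotent and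
`σ(M) ∩ σ(H) = ∅`, so `k`, `ρ` lie in a complement `E_H` of `H_σ`.  Take `A ≤ E_H` elementary
abelian of order `p²`; `E_H ≤ N(A)` (S1418) and `E_H'` is abelian (S1420(b)), hence the
`p'`-element `y = [k, ρ] ∈ E_H'` centralizes `A`.  Now `y ≠ 1` lies in `M_σ` and centralizes
`P` and `A`, and the final part of the proof of S1427 (`false_of_sigma_L`,
`false_of_not_sigma_L`) gives a contradiction.  (Packages T and Syl are not needed.)
-/

set_option autoImplicit false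
set_option linter.style.haveILetI false

namespace Cfsg.Agent.Lib.Helper13.BG

open Cfsg Cfsg.Agent.Lib.Helper46 Cfsg.Agent.Lib.Helper35.BG
open scoped commutatorElement

universe u

/-- Let `D` be abelian and `y ∈ D`, and suppose `[t, a] ∈ D` for all `t ∈ D`.  If `[y, a]` has
order dividing `p` and `y` has order prime to `p`, then `y` and `a` commute. -/
theorem comm_of_abelian_of_coprime {G : Type*} [Group G] {D : Subgroup G}
    (hDc : ∀ u ∈ D, ∀ v ∈ D, u * v = v * u) {a : G}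
    (hDA : ∀ t ∈ D, t * a * t⁻¹ * a⁻¹ ∈ D) {y : G} (hy : y ∈ D) {p : ℕ}
    (hap : (y * a * y⁻¹ * a⁻¹) ^ p = 1) (hcop : (orderOf y).Coprime p) : y * a = a * y := by
  have hmul : ∀ t₁ ∈ D, ∀ t₂ ∈ D, (t₁ * t₂) * a * (t₁ * t₂)⁻¹ * a⁻¹ =
      (t₁ * a * t₁⁻¹ * a⁻¹) * (t₂ * a * t₂⁻¹ * a⁻¹) := by
    intro t₁ ht₁ t₂ ht₂
    have e1 : (t₁ * t₂) * a * (t₁ * t₂)⁻¹ * a⁻¹ =
        t₁ * (t₂ * a * t₂⁻¹ * a⁻¹) * (a * t₁⁻¹ * a⁻¹) := by group
    have e2 : (t₂ * a * t₂⁻¹ * a⁻¹) * t₁ * (a * t₁⁻¹ * a⁻¹) =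
        (t₂ * a * t₂⁻¹ * a⁻¹) * (t₁ * a * t₁⁻¹ * a⁻¹) := by group
    rw [e1, hDc t₁ ht₁ _ (hDA t₂ ht₂), e2, hDc _ (hDA t₂ ht₂) _ (hDA t₁ ht₁)]
  have hpow : ∀ n : ℕ, (y ^ n) * a * (y ^ n)⁻¹ * a⁻¹ = (y * a * y⁻¹ * a⁻¹) ^ n := by
    intro n
    induction n with
    | zero => simp
    | succ n ih =>
      rw [pow_succ, hmul _ (D.pow_mem hy n) _ hy, ih, pow_succ]
  have h1 : (y * a * y⁻¹ * a⁻¹) ^ orderOf y = 1 := by
    rw [← hpow, pow_orderOf_eq_one]; simp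
  have h2 : orderOf (y * a * y⁻¹ * a⁻¹) = 1 :=
    Nat.eq_one_of_dvd_coprimes hcop (orderOf_dvd_of_pow_eq_one h1) (orderOf_dvd_of_pow_eq_one hap)
  have h3 := orderOf_eq_one_iff.mp h2
  have : y * a = (y * a * y⁻¹ * a⁻¹) * (a * y) := by group
  rw [this, h3, one_mul]

/-- Step B1 (general form). -/
theorem false_of_tau2_of_not_comm {G : Type*} [Group G] [Finite G] (hG : IsMinSimpleOddOrder G)
    (h1403 : type_of% (@Cfsg.CfsgFrozen.S1403 G _ _ hG))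
    (h1404 : type_of% (@Cfsg.CfsgFrozen.S1404 G _ _ hG))
    (h1405 : type_of% (@Cfsg.CfsgFrozen.S1405 G _ _ hG))
    (h1414 : type_of% (@Cfsg.CfsgFrozen.S1414 G _ _ hG))
    (h1416 : type_of% (@Cfsg.CfsgFrozen.S1416 G _ _ hG))
    (h1417 : type_of% (@Cfsg.CfsgFrozen.S1417 G _ _ hG))
    (h1418 : type_of% (@Cfsg.CfsgFrozen.S1418 G _ _ hG))
    (h1420 : type_of% (@Cfsg.CfsgFrozen.S1420 G _ _ hG))
    {M H : Subgroup G} (hM : IsCoatom M) (hH : IsCoatom H)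
    (hnc : ∀ g : G, H ≠ M.map (MulAut.conj g).toMonoidHom)
    {p : ℕ} [Fact p.Prime] (hpM : p ∉ sigma M) (hrkM : PRankLE p 1 M) (hpH : p ∈ tau2 H)
    {P : Subgroup G} (hP : Nat.card P = p) (hPM : P ≤ M)
    {r : ℕ} [Fact r.Prime] (hrM : r ∉ sigma M)
    {k ρ : G} (hk : k ∈ sigmaCore M) (hkP : k ∈ Subgroup.centralizer (P : Set G)) (hkH : k ∈ H)
    (hρM : ρ ∈ M) (hρP : ρ ∈ Subgroup.centralizer (P : Set G)) (hρH : ρ ∈ H)
    {j : ℕ} (hρ : ρ ^ r ^ j = 1) (hne : k * ρ ≠ ρ * k) : False := by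
  classical
  have hpp : p.Prime := Fact.out
  have hrp : r.Prime := Fact.out
  obtain ⟨y, hydef⟩ : ∃ y : G, y = k * ρ * k⁻¹ * ρ⁻¹ := ⟨_, rfl⟩
  have hy1 : y ≠ 1 := by
    intro h
    apply hne
    have : k * ρ = (k * ρ * k⁻¹ * ρ⁻¹) * (ρ * k) := by group
    rw [this, ← hydef, h, one_mul]
  have hyσ : y ∈ sigmaCore M := by rw [hydef]; exact comm_mem_sigmaCore hk hρM
  -- `r ∉ σ(H)`
  have hrH : r ∉ sigma H := fun hrσ =>
    hne (comm_of_sigma_case hG h1403 h1404 h1405 hM hH hnc hrM hrσ hk hkH hρM hρH hρ)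
  -- `H_σ` is nilpotent, so `σ(M) ∩ σ(H) = ∅`
  obtain ⟨A₀, hA₀H, hA₀, hA₀card⟩ :=
    Cfsg.Agent.Lib.Helper20.BG.exists_ea_sq H p hpH.2.2.1 hpH.2.2.2
  obtain ⟨hnilH, -⟩ := h1417 H hH p hpH A₀ ⟨hA₀H, hA₀, hA₀card⟩
  have hdisj : ∀ t : ℕ, t ∈ sigma H → t ∈ sigma M → False := fun t h1 h2 =>
    sigma_disjoint_of_nilpotent hG h1404 h1405 hM hH hnc hnilH h1 h2
  -- the subgroup `W`
  obtain ⟨W, hWdef⟩ : ∃ W : Subgroup G, W = (sigmaCore M ⊔ Subgroup.zpowers ρ) ⊓ H := ⟨_, rfl⟩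
  have hkW : k ∈ W := by
    rw [hWdef]; exact ⟨Subgroup.mem_sup_left hk, hkH⟩
  have hρW : ρ ∈ W := by
    rw [hWdef]; exact ⟨Subgroup.mem_sup_right (Subgroup.mem_zpowers ρ), hρH⟩
  have hWH : W ≤ H := by rw [hWdef]; exact inf_le_right
  have hWσ : ∀ t : ℕ, t.Prime → t ∣ Nat.card W → t ∉ sigma H := by
    intro t ht ht1 htH
    have h0 : Nat.card W ∣ Nat.card (sigmaCore M ⊔ Subgroup.zpowers ρ : Subgroup G) := by
      rw [hWdef]; exact Subgroup.card_dvd_of_le inf_le_left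
    have h1 : t ∣ Nat.card (Subgroup.zpowers ρ) * Nat.card (sigmaCore M) := by
      have h3 := card_sup_sigmaCore_dvd (K := Subgroup.zpowers ρ) (M := M)
        ((Subgroup.zpowers_le).mpr hρM)
      rw [sup_comm] at h3
      exact (ht1.trans h0).trans h3
    rcases (Nat.Prime.dvd_mul ht).mp h1 with h2 | h2
    · have : t = r := Cfsg.Agent.Lib.Helper67.BG.prime_eq_of_dvd_card_isPGroup
        (isPGroup_zpowers13 hρ) ht h2
      exact hrH (this ▸ htH)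
    · exact hdisj t htH (Cfsg.Agent.Lib.Helper67.BG.sigmaCore_isPi M t ht h2)
  -- a complement `E_H ⊇ W` and `A₁ ≤ E_H`
  have hHall := (Cfsg.Agent.Lib.Helper66.BG.s1350_core hG h1404 h1405 H hH).1
  obtain ⟨EH, hEH, hWE⟩ := Cfsg.Agent.Lib.Helper76.BG.exists_compl_ge hG H hH hHall W hWH hWσ
  have hnd : ¬ p ∣ EH.relIndex H := by
    rw [relIndex_left_of_isComplIn hEH]
    intro hdvd
    exact hpH.2.1 (Cfsg.Agent.Lib.Helper67.BG.sigmaCore_isPi H p hpp hdvd)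
  obtain ⟨l, -, hle⟩ :=
    exists_conj_le_of_not_dvd_relIndex (isPGroup_of_ea13 hA₀) hA₀H hEH.1 hnd
  obtain ⟨A₁, hA₁def⟩ : ∃ A₁ : Subgroup G, A₁ = A₀.map (MulAut.conj l).toMonoidHom := ⟨_, rfl⟩
  rw [← hA₁def] at hle
  have hA₁ : IsElementaryAbelian p A₁ := by rw [hA₁def]; exact ea_map_conj hA₀ l
  have hA₁card : Nat.card A₁ = p ^ 2 := by rw [hA₁def, card_map_conj, hA₀card]
  have hA₁H : A₁ ≤ H := hle.trans hEH.1
  obtain ⟨⟨hEN, -⟩, -, -⟩ := h1418 H hH EH hEH p hpH A₁ ⟨hle, hA₁, hA₁card⟩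
  obtain ⟨-, hD, -, -⟩ := h1420 H hH EH hEH
  have hDc : ∀ u ∈ (⁅EH, EH⁆ : Subgroup G), ∀ v ∈ (⁅EH, EH⁆ : Subgroup G), u * v = v * u :=
    isMulCommutative_subgroup_iff.mp hD
  -- `y ∈ E_H'` centralizes `A₁`
  have hyD : y ∈ (⁅EH, EH⁆ : Subgroup G) := by
    have e : y = ⁅k, ρ⁆ := by rw [hydef, commutatorElement_def]
    rw [e]
    exact Subgroup.commutator_mem_commutator (hWE hkW) (hWE hρW)
  have hycop : (orderOf y).Coprime p := orderOf_coprime_of_mem_sigmaCore hpM hyσ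
  have hyA : y ∈ Subgroup.centralizer (A₁ : Set G) := by
    rw [Subgroup.mem_centralizer_iff]
    intro a ha
    symm
    apply comm_of_abelian_of_coprime hDc (a := a) ?_ hyD ?_ hycop
    · intro t ht
      have h1 : a * t⁻¹ * a⁻¹ ∈ (⁅EH, EH⁆ : Subgroup G) :=
        (Subgroup.mem_normalizer_iff.mp (le_normalizer_commutator13 EH (hle ha)) t⁻¹).mp
          (Subgroup.inv_mem _ ht)
      have e : t * a * t⁻¹ * a⁻¹ = t * (a * t⁻¹ * a⁻¹) := by group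
      rw [e]
      exact Subgroup.mul_mem _ ht h1
    · apply hA₁.2
      have h1 : y * a * y⁻¹ ∈ A₁ :=
        (Subgroup.mem_normalizer_iff.mp (hEN (commutator_le_self13 EH hyD)) a).mp ha
      exact A₁.mul_mem h1 (A₁.inv_mem ha)
  have hyP : y ∈ Subgroup.centralizer (P : Set G) := by
    rw [hydef]
    exact Subgroup.mul_mem _ (Subgroup.mul_mem _ (Subgroup.mul_mem _ hkP hρP)
      (Subgroup.inv_mem _ hkP)) (Subgroup.inv_mem _ hρP)
  -- an element `z` of prime order `q` in `⟨y⟩`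
  obtain ⟨q, hq, hqy⟩ := Nat.exists_prime_and_dvd (fun h => hy1 (orderOf_eq_one_iff.mp h))
  haveI : Fact q.Prime := ⟨hq⟩
  obtain ⟨z, hzdef⟩ : ∃ z : G, z = y ^ (orderOf y / q) := ⟨_, rfl⟩
  have hzo : orderOf z = q := by
    rw [hzdef]; exact orderOf_pow_orderOf_div (orderOf_pos y).ne' hqy
  have hzσ : z ∈ sigmaCore M := by rw [hzdef]; exact Subgroup.pow_mem _ hyσ _
  have hqσ : q ∈ sigma M := mem_sigma_of_dvd_orderOf hq hzσ (hzo ▸ dvd_rfl)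
  have hpq : p ≠ q := fun h => hpM (h ▸ hqσ)
  obtain ⟨Z, hZdef⟩ : ∃ Z : Subgroup G, Z = Subgroup.zpowers z := ⟨_, rfl⟩
  have hZcard : Nat.card Z = q := by rw [hZdef, Nat.card_zpowers, hzo]
  have hZq : IsPGroup q Z := IsPGroup.of_card (n := 1) (by rw [hZcard, pow_one])
  have hZ1 : Z ≠ ⊥ := by
    intro h
    rw [h, Subgroup.card_bot] at hZcard
    exact hq.one_lt.ne' hZcard.symm
  have hZM : Z ≤ M := by
    rw [hZdef, Subgroup.zpowers_le]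
    exact Cfsg.Agent.Lib.Helper67.BG.sigmaCore_le M hzσ
  have hZtop : Z ≠ ⊤ := fun h => hM.1 (top_le_iff.mp (h ▸ hZM))
  have hA₁Z : A₁ ≤ Subgroup.centralizer (Z : Set G) := by
    have hz : z ∈ Subgroup.centralizer (A₁ : Set G) := by
      rw [hzdef]; exact Subgroup.pow_mem _ hyA _
    apply Subgroup.le_centralizer_iff.mp
    rw [hZdef, Subgroup.zpowers_le]; exact hz
  have hPZ : P ≤ Subgroup.centralizer (Z : Set G) := by
    have hz : z ∈ Subgroup.centralizer (P : Set G) := by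
      rw [hzdef]; exact Subgroup.pow_mem _ hyP _
    apply Subgroup.le_centralizer_iff.mp
    rw [hZdef, Subgroup.zpowers_le]; exact hz
  obtain ⟨L, hL, hNZL⟩ := exists_coatom_ge (normalizer_ne_top hG hZ1 hZtop)
  have hA₁L : A₁ ≤ L := (hA₁Z.trans (centralizer_le_normalizer' Z)).trans hNZL
  have hPL : P ≤ L := (hPZ.trans (centralizer_le_normalizer' Z)).trans hNZL
  have hZL : Z ≤ L := Subgroup.le_normalizer.trans hNZL
  have hLM : L ≠ M := by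
    intro h
    exact not_le_of_pRankLE_one hrkM hA₁ hA₁card (h ▸ hA₁L)
  obtain ⟨T0, hT0⟩ := (hZq.comap_subtype (K := M ⊓ L)).exists_le_sylow
  have hZT : Z ≤ (T0 : Subgroup ↥(M ⊓ L)).map (M ⊓ L).subtype := by
    intro x hx
    exact ⟨⟨x, ⟨hZM hx, hZL hx⟩⟩, hT0 (Subgroup.mem_subgroupOf.mpr hx), rfl⟩
  obtain ⟨-, hNT, hTidx⟩ := Cfsg.Agent.Lib.Helper2.BG.s1424_core hG h1404 h1416 M hM q hqσ Z hZq
    hZ1 hZM L hL hLM hNZL T0 hZT
  obtain ⟨T, hTdef⟩ : ∃ T : Subgroup G, T = (T0 : Subgroup ↥(M ⊓ L)).map (M ⊓ L).subtype :=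
    ⟨_, rfl⟩
  rw [← hTdef] at hZT hNT hTidx
  have hTML : T ≤ M ⊓ L := by rw [hTdef]; exact Subgroup.map_subtype_le _
  have hTq : IsPGroup q T := by rw [hTdef]; exact T0.isPGroup'.map _
  have hTsyl : IsSylowIn q T L :=
    isSylowIn_of_not_dvd_relIndex hTq (hTML.trans inf_le_right) hTidx
  have hpni : ¬ IsIdealPrime p G :=
    (Cfsg.Agent.Lib.Helper20.BG.s1408_core hG h1403 H hH p hpH.2.1 hpH.2.2.1 hpH.2.2.2).1
  by_cases hqL : q ∈ sigma L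
  · exact false_of_sigma_L hG h1403 h1404 h1414 hM hL hLM hrkM hpni hA₁L hA₁ hA₁card hTsyl
      (hTML.trans inf_le_left) hNT hqL
  · exact false_of_not_sigma_L hG h1404 h1405 h1416 h1417 hM hL hLM hpq hrkM hA₁L hA₁ hA₁card
      hTsyl (hTML.trans inf_le_left) hNT hZT hZ1 hNZL hPM hPL hP hqL

/-- Package B1 of the S1428 project. -/
theorem lemB1 : Cfsg.Agent.Lib.Helper95.BG28.LemB1.{u} := by
  intro _ _ G _ _ hG hy M E P R p r cx H hH hNP hnc hpH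
  obtain ⟨hM, hE, hp, hPE, hP, hRE, hRP, hR, hr, hne⟩ := cx
  haveI : Fact p.Prime := ⟨hp.1⟩
  haveI : Fact r.Prime := ⟨hr⟩
  have hHall := (Cfsg.Agent.Lib.Helper66.BG.s1350_core hG hy.h1404 hy.h1405 M hM).1
  have hrM : r ∉ sigma M := by
    intro hrσ
    have h1 := hHall.2.2 r hr hrσ
    rw [relIndex_right_of_isComplIn hE] at h1
    exact h1 (hR ▸ Subgroup.card_dvd_of_le hRE)
  rw [SetLike.not_le_iff_exists] at hne
  obtain ⟨k, ⟨hkσ, hkP⟩, hkR⟩ := hne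
  have hkR' : ¬ ∀ ρ ∈ R, ρ * k = k * ρ := by
    intro hall
    apply hkR
    rw [Subgroup.mem_centralizer_iff]
    exact hall
  push Not at hkR'
  obtain ⟨ρ, hρR, hρk⟩ := hkR'
  have hρ : ρ ^ r ^ 1 = 1 := by
    rw [pow_one]
    have h1 : (⟨ρ, hρR⟩ : ↥R) ^ Nat.card R = 1 := pow_card_eq_one'
    rw [hR] at h1
    have := congrArg Subtype.val h1
    simpa using this
  have hCN : Subgroup.centralizer (P : Set G) ≤ H := (centralizer_le_normalizer' P).trans hNP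
  exact false_of_tau2_of_not_comm hG hy.h1403 hy.h1404 hy.h1405 hy.h1414 hy.h1416 hy.h1417
    hy.h1418 hy.h1420 hM hH hnc hp.2.1 hp.2.2.2.2 hpH hP (hPE.trans hE.1) hrM hkσ hkP (hCN hkP)
    (hE.1 (hRE hρR)) (hRP hρR) (hCN (hRP hρR)) hρ (fun h => hρk h.symm)

end Cfsg.Agent.Lib.Helper13.BG
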