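import Mathlib
import Cfsg.Statements.S1350
import Cfsg.Statements.S1378
import Cfsg.Statements.S1409
import Cfsg.Statements.S1418
import Cfsg.Statements.S1420
import Cfsg.Statements.S1424
import Cfsg.Statements.S1425
import Cfsg.Statements.S1429
import Cfsg.Statements.S1430
import Cfsg.Statements.S1431
import Cfsg.Statements.S1432
import Cfsg.Agent.Lib.Helper13.BG.LemX
import Cfsg.Agent.Lib.Helper44.BG.S1374Core
import Cfsg.Agent.Lib.Helper85.BG.Conj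
import Cfsg.Agent.Lib.Helper68.BG.FrobAct
import Cfsg.Agent.Lib.Helper27.BG.SigmaBasic

/-!
# B&G 14.15 / 14.16 (statement S1436), part A

The situation `Sit14 M N x p₀`: `M`, `N` maximal, `x` of prime order `p₀` in `M_σ`, `C(x) ⊄ M`,
`N` the unique maximal subgroup over `C(x)`, `p₀ ∈ τ₂(N)`, `N` not conjugate to `M`,
`N_σ ∩ M = 1`, `M ∩ N` a complement of `N_σ` in `N`.
-/

namespace Cfsg.Agent.Lib.Helper13.BG

open Cfsg Cfsg.Agent.Lib.Helper46 Cfsg.Agent.Lib.Helper35.BG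

variable {G : Type*} [Group G]

/-- `c ∈ C({a})` from `a * c = c * a`. -/
theorem mem_cent_singleton13 {a c : G} (h : a * c = c * a) :
    c ∈ Subgroup.centralizer ({a} : Set G) := by
  rw [Subgroup.mem_centralizer_iff]
  intro b hb
  rw [Set.mem_singleton_iff] at hb
  rw [hb]; exact h

theorem comm_of_mem_cent_singleton13 {a c : G} (h : c ∈ Subgroup.centralizer ({a} : Set G)) :
    a * c = c * a := by
  rw [Subgroup.mem_centralizer_iff] at h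
  exact h a rfl

/-- Cauchy inside a subgroup. -/
theorem exists_mem_orderOf_eq13 [Finite G] {q : ℕ} (hq : q.Prime) {M : Subgroup G}
    (hqM : q ∣ Nat.card M) : ∃ y ∈ M, orderOf y = q := by
  haveI : Fact q.Prime := ⟨hq⟩
  obtain ⟨y, hy⟩ := exists_prime_orderOf_dvd_card' q hqM
  exact ⟨(y : G), y.2, by rw [Subgroup.orderOf_coe]; exact hy⟩

theorem ne_one_of_orderOf_prime13 {q : ℕ} (hq : q.Prime) {y : G} (hy : orderOf y = q) : y ≠ 1 := by
  intro h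
  rw [h, orderOf_one] at hy
  exact hq.one_lt.ne hy

theorem pow_prime_one_of_orderOf13 {q : ℕ} {y : G} (hy : orderOf y = q) : y ^ q ^ 1 = 1 := by
  rw [pow_one, ← hy]; exact pow_orderOf_eq_one y

theorem prime_dvd_orderOf_eq13 {q p : ℕ} (hq : q.Prime) (hp : p.Prime) {y : G}
    (hy : orderOf y = q) (hd : p ∣ orderOf y) : p = q := by
  rw [hy] at hd
  exact (Nat.prime_dvd_prime_iff_eq hp hq).mp hd

theorem pRankLE_map_conj_iff [Finite G] {p k : ℕ} (N : Subgroup G) (g : G) :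
    PRankLE p k (N.map (MulAut.conj g).toMonoidHom) ↔ PRankLE p k N := by
  constructor
  · intro h
    have := Cfsg.Agent.Lib.Helper85.BG.pRankLE_map_conj h g⁻¹
    rwa [Cfsg.Agent.Lib.Helper85.BG.map_conj_inv_map_conj] at this
  · intro h
    exact Cfsg.Agent.Lib.Helper85.BG.pRankLE_map_conj h g

theorem tau2_map_conj [Finite G] (N : Subgroup G) (g : G) :
    tau2 (N.map (MulAut.conj g).toMonoidHom) = tau2 N := by
  ext r
  unfold tau2
  simp only [Set.mem_setOf_eq]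
  rw [Cfsg.Agent.Lib.Helper27.BG.sigma_map_conj, pRankLE_map_conj_iff, pRankLE_map_conj_iff]

theorem beta_map_conj [Finite G] (N : Subgroup G) (g : G) :
    beta (N.map (MulAut.conj g).toMonoidHom) = beta N := by
  ext r
  unfold beta alpha
  simp only [Set.mem_setOf_eq]
  rw [pRankLE_map_conj_iff]

/-- The situation of B&G 14.15. -/
structure Sit14 (M N : Subgroup G) (x : G) (p₀ : ℕ) : Prop where
  hM : IsCoatom M
  hN : IsCoatom N
  hp : p₀.Prime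
  hx : x ∈ sigmaCore M
  hxo : orderOf x = p₀
  hτ : p₀ ∈ tau2 N
  hxM : ¬ Subgroup.centralizer ({x} : Set G) ≤ M
  hxN : Subgroup.centralizer ({x} : Set G) ≤ N
  huniq : ∀ L : Subgroup G, IsCoatom L → Subgroup.centralizer ({x} : Set G) ≤ L → L = N
  hnc : ∀ g : G, N ≠ M.map (MulAut.conj g).toMonoidHom
  hσNM : sigmaCore N ⊓ M = ⊥
  hcompl : IsComplIn (M ⊓ N) (sigmaCore N) N
  hdisj : ∀ r : ℕ, r ∈ sigma M → r ∈ sigma N → False

theorem Sit14.x_ne_one {M N : Subgroup G} {x : G} {p₀ : ℕ} (S : Sit14 M N x p₀) : x ≠ 1 :=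
  ne_one_of_orderOf_prime13 S.hp S.hxo

theorem Sit14.hNM {M N : Subgroup G} {x : G} {p₀ : ℕ} (S : Sit14 M N x p₀) : N ≠ M := by
  intro h
  exact S.hnc 1 (by rw [Cfsg.Agent.Lib.Helper35.BG.map_conj_one]; exact h)

theorem Sit14.x_mem_N {M N : Subgroup G} {x : G} {p₀ : ℕ} (S : Sit14 M N x p₀) : x ∈ N :=
  S.hxN (mem_cent_singleton13 rfl)

theorem Sit14.p_mem_sigma [Finite G] {M N : Subgroup G} {x : G} {p₀ : ℕ} (S : Sit14 M N x p₀) :
    p₀ ∈ sigma M :=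
  mem_sigma_of_dvd_orderOf S.hp S.hx (by rw [S.hxo])

theorem exists_sit14 [Finite G] (hG : IsMinSimpleOddOrder G)
    (h1350 : type_of% (@Cfsg.CfsgFrozen.S1350 G _ _ hG))
    (h1378 : type_of% (@Cfsg.CfsgFrozen.S1378 G _ _ hG))
    (h1409 : type_of% (@Cfsg.CfsgFrozen.S1409 G _ _ hG))
    (h1417 : type_of% (@Cfsg.CfsgFrozen.S1417 G _ _ hG))
    (h1418 : type_of% (@Cfsg.CfsgFrozen.S1418 G _ _ hG))
    (h1420 : type_of% (@Cfsg.CfsgFrozen.S1420 G _ _ hG))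
    (h1424 : type_of% (@Cfsg.CfsgFrozen.S1424 G _ _ hG))
    (h1432 : type_of% (@Cfsg.CfsgFrozen.S1432 G _ _ hG))
    {M N : Subgroup G} (hM : IsCoatom M) {x : G} (hx : x ∈ sigmaCore M) (hx1 : x ≠ 1)
    (hxM : ¬ Subgroup.centralizer ({x} : Set G) ≤ M)
    (hN : IsCoatom N) (hxN : Subgroup.centralizer ({x} : Set G) ≤ N) :
    ∃ (k p₀ : ℕ), Sit14 M N (x ^ k) p₀ ∧
      Subgroup.centralizer ({x} : Set G) ≤ Subgroup.centralizer ({x ^ k} : Set G) := by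
  obtain ⟨N₁, ⟨hN₁, hxN₁⟩, huniq, -⟩ :=
    Cfsg.Agent.Lib.Helper44.BG.s1375_core hG h1350 h1378 h1409 h1417 h1418 h1420 h1424 h1432
      M hM x hx hx1 hxM
  obtain ⟨N₂, p, hN₂, hxN₂, hnc, hp, hpx, hτ, -, hσNM, hcompl⟩ :=
    Cfsg.Agent.Lib.Helper44.BG.s1375_aux hG h1350 h1378 h1409 h1417 h1418 h1420 h1424
      M hM x hx hx1 hxM
  have e1 : N₁ = N := (huniq N hN hxN).symm
  have e2 : N₂ = N := (huniq N₂ hN₂ hxN₂).trans e1
  rw [e2] at hnc hτ hσNM hcompl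
  have hxo0 : orderOf x ≠ 0 := (orderOf_pos x).ne'
  have hxk : orderOf (x ^ (orderOf x / p)) = p := orderOf_pow_orderOf_div hxo0 hpx
  have hxk1 : x ^ (orderOf x / p) ≠ 1 := ne_one_of_orderOf_prime13 hp hxk
  have hxkM : x ^ (orderOf x / p) ∈ sigmaCore M := pow_mem hx _
  have hcc : Subgroup.centralizer ({x} : Set G) ≤
      Subgroup.centralizer ({x ^ (orderOf x / p)} : Set G) := by
    intro c hc
    have h1 : Commute x c := comm_of_mem_cent_singleton13 hc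
    exact mem_cent_singleton13 (h1.pow_left _).eq
  have hxkM' : ¬ Subgroup.centralizer ({x ^ (orderOf x / p)} : Set G) ≤ M :=
    fun h => hxM (hcc.trans h)
  obtain ⟨N₃, ⟨hN₃, hxN₃⟩, huniq₃, -⟩ :=
    Cfsg.Agent.Lib.Helper44.BG.s1375_core hG h1350 h1378 h1409 h1417 h1418 h1420 h1424 h1432
      M hM (x ^ (orderOf x / p)) hxkM hxk1 hxkM'
  have e3 : N₃ = N := (huniq N₃ hN₃ (hcc.trans hxN₃)).trans e1
  rw [e3] at hxN₃ huniq₃
  refine ⟨orderOf x / p, p, ⟨hM, hN, hp, hxkM, hxk, hτ, hxkM', hxN₃, huniq₃, hnc, hσNM, hcompl,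
    ?_⟩, hcc⟩
  intro r hrM hrN
  obtain ⟨g, hg⟩ := h1378.2 M N hM hN ⟨r, hrM, hrN⟩
  exact hnc g hg

/-- (L1) For `H` maximal, `q ∈ σ(H) \ β(H)` and `p ∈ τ₂(H)`: `p < q`. -/
theorem lt_of_tau2_of_not_beta [Finite G] (hG : IsMinSimpleOddOrder G)
    (h1350 : type_of% (@Cfsg.CfsgFrozen.S1350 G _ _ hG))
    (h1414 : type_of% (@Cfsg.CfsgFrozen.S1414 G _ _ hG))
    (h1417 : type_of% (@Cfsg.CfsgFrozen.S1417 G _ _ hG))
    {H : Subgroup G} (hH : IsCoatom H) {p q : ℕ} (hq : q ∈ sigma H) (hqβ : q ∉ beta H)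
    (hp : p ∈ tau2 H) : p < q := by
  by_contra hlt
  have hpp : p.Prime := hp.1
  have hqp : q.Prime := hq.1
  haveI : Fact p.Prime := ⟨hpp⟩
  haveI : Fact q.Prime := ⟨hqp⟩
  have hne : q ≠ p := fun h => hp.2.1 (h ▸ hq)
  have hqltp : q < p := lt_of_le_of_ne (not_lt.mp hlt) hne
  obtain ⟨A, hAH, hA, hA2⟩ := Cfsg.Agent.Lib.Helper20.BG.exists_ea_sq H p hp.2.2.1 hp.2.2.2
  obtain ⟨-, -, -, -, -, A₁, hA₁A, hA₁c, hA₁⟩ := h1417 H hH p hp A ⟨hAH, hA, hA2⟩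
  obtain ⟨a, haA₁, hao, hA₁eq⟩ :=
    Cfsg.Agent.Lib.Helper27.BG.exists_generator_of_card_prime hpp hA₁c
  have haH : a ∈ H := hAH (hA₁A haA₁)
  have hap : a ^ p ^ 1 = 1 := pow_prime_one_of_orderOf13 hao
  have hHall := (h1350 H hH).1
  have hpnd : ¬ p ∣ Nat.card (sigmaCore H) :=
    fun h => hp.2.1 (Cfsg.Agent.Lib.Helper67.BG.sigmaCore_isPi H p hpp h)
  have hqd : q ∣ Nat.card (sigmaCore H) := by
    have h1 := card_mul_relIndex' hHall.1
    have h2 : q ∣ Nat.card (sigmaCore H) * (sigmaCore H).relIndex H := h1 ▸ hq.2.1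
    exact (hqp.dvd_mul.mp h2).resolve_right (hHall.2.2 q hqp hq)
  have hzN : Subgroup.zpowers a ≤ Subgroup.normalizer (sigmaCore H : Set G) :=
    (Subgroup.zpowers_le.mpr haH).trans (Cfsg.Agent.Lib.Helper67.BG.sigmaCore_normalizer H)
  obtain ⟨V, hV, hVn⟩ := exists_normalized_sylow (q := q) (isPGroup_zpowers13 hap) hzN
    (fun h => hpnd (h.trans (card_sylow_dvd_card _)))
  have hV1 : V ≠ ⊥ := sylIn_ne_bot hV hqd
  have hcomm := comm_of_lt_of_not_beta hG h1414 hH hq.2.1 hqβ hqltp (sylIn_isPGroup hV)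
    (hV.1.trans (Cfsg.Agent.Lib.Helper67.BG.sigmaCore_le H)) haH hap
    (hVn (Subgroup.mem_zpowers a))
  apply hV1
  rw [eq_bot_iff, ← hA₁]
  intro v hv
  refine ⟨hV.1 hv, ?_⟩
  rw [hA₁eq]
  exact Cfsg.Agent.Lib.Helper27.BG.mem_centralizer_zpowers (hcomm v hv)

/-- (c) `τ₂(N) ⊆ σ(M)`. -/
theorem Sit14.tau2_subset_sigma [Finite G] (hG : IsMinSimpleOddOrder G)
    (h1405 : type_of% (@Cfsg.CfsgFrozen.S1405 G _ _ hG))
    (h1417 : type_of% (@Cfsg.CfsgFrozen.S1417 G _ _ hG))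
    {M N : Subgroup G} {x : G} {p₀ : ℕ} (S : Sit14 M N x p₀) {r : ℕ} (hr : r ∈ tau2 N) :
    r ∈ sigma M := by
  by_contra hrM
  haveI : Fact r.Prime := ⟨hr.1⟩
  obtain ⟨A, hAE, hA, hA2⟩ := Cfsg.Agent.Lib.Helper67.BG.exists_ea_sq_le_compl S.hcompl hr
  exact false_of_ea_le_inter hG h1405 h1417 S.hM S.hN S.hNM hrM hA hA2
    (hAE.trans inf_le_left) (hAE.trans inf_le_right) S.hx S.x_mem_N S.x_ne_one

/-- (d) A prime of `σ(N)` dividing `|M|` lies in `β(N)`. -/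
theorem Sit14.mem_beta [Finite G] (hG : IsMinSimpleOddOrder G)
    (h1350 : type_of% (@Cfsg.CfsgFrozen.S1350 G _ _ hG))
    (h1414 : type_of% (@Cfsg.CfsgFrozen.S1414 G _ _ hG))
    (h1417 : type_of% (@Cfsg.CfsgFrozen.S1417 G _ _ hG))
    (h1423 : type_of% (@Cfsg.CfsgFrozen.S1423 G _ _ hG))
    (h1432 : type_of% (@Cfsg.CfsgFrozen.S1432 G _ _ hG))
    {M N : Subgroup G} {x : G} {p₀ : ℕ} (S : Sit14 M N x p₀) {q : ℕ} (hq : q ∈ sigma N)
    (hqM : q ∣ Nat.card M) : q ∈ beta N := by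
  by_contra hqβ
  have hqp : q.Prime := hq.1
  haveI : Fact q.Prime := ⟨hqp⟩
  haveI : Fact p₀.Prime := ⟨S.hp⟩
  have hlt : p₀ < q := lt_of_tau2_of_not_beta hG h1350 h1414 h1417 S.hN hq hqβ S.hτ
  have hp₀σ : p₀ ∈ sigma M := S.p_mem_sigma
  have hp₀β : p₀ ∉ beta M := by
    intro hβ
    have h := (h1423 M S.hM p₀ hp₀σ (Subgroup.zpowers x)
      (Subgroup.zpowers_le.mpr (Cfsg.Agent.Lib.Helper67.BG.sigmaCore_le M S.hx))
      (Cfsg.Agent.Lib.Helper27.BG.card_zpowers_of_orderOf S.hxo) default (Or.inl hβ)).1.1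
    exact S.hxM
      ((Cfsg.Agent.Lib.Helper61.centralizer_singleton_le_centralizer_zpowers x).trans h)
  have hqσM : q ∉ sigma M := fun h => S.hdisj q h hq
  obtain ⟨y, hyM, hyo⟩ := exists_mem_orderOf_eq13 hqp hqM
  have hyq : y ^ q ^ 1 = 1 := pow_prime_one_of_orderOf13 hyo
  have hy1 : y ≠ 1 := ne_one_of_orderOf_prime13 hqp hyo
  have hqnd : ¬ q ∣ Nat.card (sigmaCore M) :=
    fun h => hqσM (Cfsg.Agent.Lib.Helper67.BG.sigmaCore_isPi M q hqp h)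
  obtain ⟨Py, hPy, hPyn⟩ := exists_normalized_sylow (q := p₀) (isPGroup_zpowers13 hyq)
    ((Subgroup.zpowers_le.mpr hyM).trans (Cfsg.Agent.Lib.Helper67.BG.sigmaCore_normalizer M))
    (fun h => hqnd (h.trans (card_sylow_dvd_card _)))
  have hcomm := comm_of_lt_of_not_beta hG h1414 S.hM hp₀σ.2.1 hp₀β hlt (sylIn_isPGroup hPy)
    (hPy.1.trans (Cfsg.Agent.Lib.Helper67.BG.sigmaCore_le M)) hyM hyq
    (hPyn (Subgroup.mem_zpowers y))
  have hxp : IsPGroup p₀ (Subgroup.zpowers x) :=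
    isPGroup_zpowers13 (pow_prime_one_of_orderOf13 S.hxo)
  obtain ⟨R, hR, hxR⟩ := exists_isSylowIn_ge hxp (Subgroup.zpowers_le.mpr S.hx)
  obtain ⟨m, hm, hPyR⟩ := hR.exists_conj hPy
  have hzPy : m * x * m⁻¹ ∈ Py := by
    rw [hPyR]; exact conj_mem_map_conj m (hxR (Subgroup.mem_zpowers x))
  have hzσ : m * x * m⁻¹ ∈ sigmaCore M := hPy.1 hzPy
  have hz1 : m * x * m⁻¹ ≠ 1 := Cfsg.Agent.Lib.Helper85.BG.conj_ne_one S.x_ne_one
  have hzy : (m * x * m⁻¹) * y = y * (m * x * m⁻¹) := hcomm _ hzPy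
  have hyσ : ∀ p : ℕ, p.Prime → p ∣ orderOf y → p ∉ sigma M := by
    intro p hp hd
    rw [prime_dvd_orderOf_eq13 hqp hp hyo hd]; exact hqσM
  rcases h1432 M S.hM (m * x * m⁻¹) hzσ hz1 y ⟨hyM, mem_cent_singleton13 hzy⟩ hy1 hyσ with
    ⟨-, hC⟩ | ⟨hτ, -, -⟩
  · apply S.hxM
    intro c hc
    have h1 := hC (Cfsg.Agent.Lib.Helper85.BG.conj_mem_centralizer_conj hc m)
    have hmM : m ∈ M := Cfsg.Agent.Lib.Helper67.BG.sigmaCore_le M hm
    have h2 : c = m⁻¹ * (m * c * m⁻¹) * m := by group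
    rw [h2]; exact M.mul_mem (M.mul_mem (M.inv_mem hmM) h1) hmM
  · have hqτ : q ∈ tau2 M := hτ q hqp (by rw [hyo])
    have := lt_of_tau2_of_not_beta hG h1350 h1414 h1417 S.hM hp₀σ hp₀β hqτ
    omega

end Cfsg.Agent.Lib.Helper13.BG
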