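import Mathlib
import Cfsg.Agent.Lib.Helper13.BG.S1436A

/-!
# B&G 14.15 / 14.16 (statement S1436), part B

(*) In the situation `Sit14 M N x p₀`: for `q ∈ σ(N)` and `y ∈ M` of order `q`,
`C_{M_σ}(y) = 1`.
-/

namespace Cfsg.Agent.Lib.Helper13.BG

open Cfsg Cfsg.Agent.Lib.Helper46 Cfsg.Agent.Lib.Helper35.BG

variable {G : Type*} [Group G]

/-- `Ω₁(U)` for an abelian subgroup `U`: the elements of `U` of order dividing `p`. -/
def omegaSub (p : ℕ) (U : Subgroup G) (hU : ∀ a ∈ U, ∀ b ∈ U, a * b = b * a) : Subgroup G where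
  carrier := {u | u ∈ U ∧ u ^ p = 1}
  mul_mem' := by
    rintro a b ⟨ha, hap⟩ ⟨hb, hbp⟩
    exact ⟨U.mul_mem ha hb, by
      rw [(show Commute a b from hU a ha b hb).mul_pow, hap, hbp, one_mul]⟩
  one_mem' := ⟨U.one_mem, one_pow p⟩
  inv_mem' := by
    rintro a ⟨ha, hap⟩
    exact ⟨U.inv_mem ha, by rw [inv_pow, hap, inv_one]⟩

theorem mem_omegaSub {p : ℕ} {U : Subgroup G} {hU : ∀ a ∈ U, ∀ b ∈ U, a * b = b * a} {u : G} :
    u ∈ omegaSub p U hU ↔ u ∈ U ∧ u ^ p = 1 := Iff.rfl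

theorem omegaSub_le {p : ℕ} {U : Subgroup G} {hU : ∀ a ∈ U, ∀ b ∈ U, a * b = b * a} :
    omegaSub p U hU ≤ U := fun _ h => h.1

theorem omegaSub_ea {p : ℕ} {U : Subgroup G} {hU : ∀ a ∈ U, ∀ b ∈ U, a * b = b * a} :
    IsElementaryAbelian p (omegaSub p U hU) :=
  ⟨isMulCommutative_subgroup_iff.mpr (fun a ha b hb => hU a ha.1 b hb.1), fun _ h => h.2⟩

theorem mem_normalizer_omegaSub {p : ℕ} {U : Subgroup G}
    {hU : ∀ a ∈ U, ∀ b ∈ U, a * b = b * a} {g : G}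
    (hg : g ∈ Subgroup.normalizer (U : Set G)) :
    g ∈ Subgroup.normalizer ((omegaSub p U hU : Subgroup G) : Set G) := by
  rw [Subgroup.mem_normalizer_iff] at hg ⊢
  intro n
  rw [mem_omegaSub, mem_omegaSub, ← hg n, conj_pow, conj_eq_one_iff]

/-- (*) with an explicit conjugate `N₁` of `N`. -/
theorem cent_trivial_aux [Finite G] (hG : IsMinSimpleOddOrder G)
    (h1403 : type_of% (@Cfsg.CfsgFrozen.S1403 G _ _ hG))
    (h1417 : type_of% (@Cfsg.CfsgFrozen.S1417 G _ _ hG))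
    (h1423 : type_of% (@Cfsg.CfsgFrozen.S1423 G _ _ hG))
    (h1430 : type_of% (@Cfsg.CfsgFrozen.S1430 G _ _ hG))
    (h1431 : type_of% (@Cfsg.CfsgFrozen.S1431 G _ _ hG))
    (h1432 : type_of% (@Cfsg.CfsgFrozen.S1432 G _ _ hG))
    {M N₁ : Subgroup G} (hM : IsCoatom M) (hN₁ : IsCoatom N₁) (hne : N₁ ≠ M)
    (hdisj : ∀ r : ℕ, r ∈ sigma M → r ∈ sigma N₁ → False)
    {p₀ : ℕ} (hp₀M : p₀ ∈ sigma M) (hp₀ : p₀ ∈ tau2 N₁)
    {q : ℕ} (hqβ : q ∈ beta N₁) (hqσ : q ∈ sigma N₁)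
    {y : G} (hyM : y ∈ M) (hyN : y ∈ sigmaCore N₁) (hyo : orderOf y = q)
    {w : G} (hw : w ∈ sigmaCore M) (hwy : w * y = y * w) : w = 1 := by
  by_contra hw1
  have hqp : q.Prime := hqσ.1
  haveI : Fact q.Prime := ⟨hqp⟩
  have hqσM : q ∉ sigma M := fun h => hdisj q h hqσ
  have hy1 : y ≠ 1 := ne_one_of_orderOf_prime13 hqp hyo
  obtain ⟨t, k, ht, -, htσ, hcard, -⟩ :=
    Cfsg.Agent.Lib.Helper44.BG.exists_prime_zpowers hw hw1
  have hw'o : orderOf (w ^ k) = t := by rw [← Nat.card_zpowers]; exact hcard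
  have hw'1 : w ^ k ≠ 1 := ne_one_of_orderOf_prime13 ht hw'o
  have hw'σ : w ^ k ∈ sigmaCore M := pow_mem hw k
  have hw'y : w ^ k * y = y * w ^ k := ((show Commute w y from hwy).pow_left k).eq
  have hyσ : ∀ p : ℕ, p.Prime → p ∣ orderOf y → p ∉ sigma M := by
    intro p hp hd
    rw [prime_dvd_orderOf_eq13 hqp hp hyo hd]; exact hqσM
  have hκC : q ∈ kappa M ∧ Subgroup.centralizer ({w ^ k} : Set G) ≤ M := by
    rcases h1432 M hM (w ^ k) hw'σ hw'1 y ⟨hyM, mem_cent_singleton13 hw'y⟩ hy1 hyσ with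
      ⟨hκ, hC⟩ | ⟨hτ, -, -⟩
    · exact ⟨hκ q hqp (by rw [hyo]), hC⟩
    · exfalso
      have hqτ := hτ q hqp (by rw [hyo])
      exact (Cfsg.Agent.Lib.Helper20.BG.s1408_core hG h1403 M hM q hqτ.2.1 hqτ.2.2.1
        hqτ.2.2.2).1 hqβ.2
  obtain ⟨hqκ, hCw⟩ := hκC
  have hyN₁ : y ∈ N₁ := Cfsg.Agent.Lib.Helper67.BG.sigmaCore_le N₁ hyN
  have hCy : Subgroup.centralizer ((Subgroup.zpowers y : Subgroup G) : Set G) ≤ N₁ :=
    (h1423 N₁ hN₁ q hqσ (Subgroup.zpowers y) (Subgroup.zpowers_le.mpr hyN₁)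
      (Cfsg.Agent.Lib.Helper27.BG.card_zpowers_of_orderOf hyo) default (Or.inl hqβ)).1.1
  have hw'N₁ : w ^ k ∈ N₁ := hCy (Cfsg.Agent.Lib.Helper27.BG.mem_centralizer_zpowers hw'y)
  have htN₁ : t ∉ sigma N₁ := fun h => hdisj t htσ h
  have hw'σN : ∀ p : ℕ, p.Prime → p ∣ orderOf (w ^ k) → p ∉ sigma N₁ := by
    intro p hp hd
    rw [prime_dvd_orderOf_eq13 ht hp hw'o hd]; exact htN₁
  have htκ : t ∈ kappa N₁ := by
    rcases h1432 N₁ hN₁ y hyN hy1 (w ^ k) ⟨hw'N₁, mem_cent_singleton13 hw'y.symm⟩ hw'1 hw'σN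
      with ⟨hκ, -⟩ | ⟨-, -, -, hu⟩
    · exact hκ t ht (by rw [hw'o])
    · exact absurd (hu M hM hCw).symm hne
  have hsolvN : Group.IsSolvable N₁ := isSolvable_of_ne_top hG hN₁.1
  obtain ⟨K₁, hK₁, hwK₁⟩ := Cfsg.Agent.Lib.Helper67.BG.exists_piHallOf_ge (kappa N₁) N₁ hsolvN
    (Subgroup.zpowers (w ^ k)) (Subgroup.zpowers_le.mpr hw'N₁) (by
      intro p hp hd
      rw [Cfsg.Agent.Lib.Helper27.BG.card_zpowers_of_orderOf hw'o] at hd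
      rw [(Nat.prime_dvd_prime_iff_eq hp ht).mp hd]; exact htκ)
  have hw'K₁ : w ^ k ∈ K₁ := hwK₁ (Subgroup.mem_zpowers _)
  have hK₁1 : K₁ ≠ ⊥ := by
    intro h
    rw [h, Subgroup.mem_bot] at hw'K₁
    exact hw'1 hw'K₁
  obtain ⟨-, ⟨U₁, hU₁c, hU₁H, hK₁U, -⟩, -⟩ := h1430 N₁ hN₁ K₁ hK₁ hK₁1
  haveI : Fact p₀.Prime := ⟨hp₀.1⟩
  obtain ⟨A, hAN, hA, hA2⟩ := Cfsg.Agent.Lib.Helper20.BG.exists_ea_sq N₁ p₀ hp₀.2.2.1 hp₀.2.2.2
  have hp₀κ : p₀ ∉ kappa N₁ := Cfsg.Agent.Lib.Helper67.BG.not_mem_kappa_of_mem_tau2 hp₀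
  obtain ⟨l, hl, hAU⟩ := exists_conj_le_of_not_dvd_relIndex (isPGroup_of_ea13 hA) hAN hU₁H.1
    (hU₁H.2.2 p₀ hp₀.1 ⟨hp₀.1, hp₀κ, hp₀.2.1⟩)
  have hA'ea : IsElementaryAbelian p₀ (A.map (MulAut.conj l).toMonoidHom) := ea_map_conj hA l
  have hA'2 : Nat.card (A.map (MulAut.conj l).toMonoidHom) = p₀ ^ 2 := by
    rw [card_map_conj]; exact hA2
  have hA'N : A.map (MulAut.conj l).toMonoidHom ≤ N₁ := hAU.trans hU₁H.1
  have hU₁comm : ∀ a ∈ U₁, ∀ b ∈ U₁, a * b = b * a := isMulCommutative_subgroup_iff.mp hU₁c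
  have hA'Ω : A.map (MulAut.conj l).toMonoidHom ≤ omegaSub p₀ U₁ hU₁comm :=
    fun a ha => ⟨hAU ha, hA'ea.2 a ha⟩
  have hw'Ω : Subgroup.zpowers (w ^ k) ≤
      Subgroup.normalizer ((omegaSub p₀ U₁ hU₁comm : Subgroup G) : Set G) :=
    Subgroup.zpowers_le.mpr (mem_normalizer_omegaSub (hK₁U hw'K₁))
  have hTdvd := Cfsg.Agent.Lib.Helper27.BG.card_sup_dvd_mul hw'Ω
  have hΩp : IsPGroup p₀ (omegaSub p₀ U₁ hU₁comm) := isPGroup_of_ea13 omegaSub_ea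
  have hTσ : ∀ p : ℕ, p.Prime →
      p ∣ Nat.card (Subgroup.zpowers (w ^ k) ⊔ omegaSub p₀ U₁ hU₁comm : Subgroup G) →
      p ∈ sigma M := by
    intro p hp hd
    rcases (hp.dvd_mul.mp (hd.trans hTdvd)) with h | h
    · rw [Cfsg.Agent.Lib.Helper27.BG.card_zpowers_of_orderOf hw'o] at h
      rw [(Nat.prime_dvd_prime_iff_eq hp ht).mp h]; exact htσ
    · rw [Cfsg.Agent.Lib.Helper67.BG.prime_eq_of_dvd_card_isPGroup hΩp hp h]; exact hp₀M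
  have hsolvM : Group.IsSolvable M := isSolvable_of_ne_top hG hM.1
  obtain ⟨K, hK, hyK⟩ := Cfsg.Agent.Lib.Helper67.BG.exists_piHallOf_ge (kappa M) M hsolvM
    (Subgroup.zpowers y) (Subgroup.zpowers_le.mpr hyM) (by
      intro p hp hd
      rw [Cfsg.Agent.Lib.Helper27.BG.card_zpowers_of_orderOf hyo] at hd
      rw [(Nat.prime_dvd_prime_iff_eq hp hqp).mp hd]; exact hqκ)
  have hyK' : y ∈ K := hyK (Subgroup.mem_zpowers y)
  have hK1 : K ≠ ⊥ := by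
    intro h
    rw [h, Subgroup.mem_bot] at hyK'
    exact hy1 hyK'
  have h30 := (h1430 M hM K hK hK1).1 y hyK' hy1
  have hw'K : w ^ k ∈ sigmaCore M ⊓ Subgroup.centralizer (K : Set G) := by
    rw [← h30]; exact ⟨hw'σ, mem_cent_singleton13 hw'y.symm⟩
  have hT := (h1431 M hM K hK hK1).2.2.2
    (Subgroup.zpowers (w ^ k) ⊔ omegaSub p₀ U₁ hU₁comm) hTσ (by
      intro hbot
      have hmem : w ^ k ∈ (Subgroup.zpowers (w ^ k) ⊔ omegaSub p₀ U₁ hU₁comm) ⊓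
          (sigmaCore M ⊓ Subgroup.centralizer (K : Set G)) :=
        ⟨(le_sup_left : Subgroup.zpowers (w ^ k) ≤ _) (Subgroup.mem_zpowers _), hw'K⟩
      rw [hbot, Subgroup.mem_bot] at hmem
      exact hw'1 hmem)
  have hA'M : A.map (MulAut.conj l).toMonoidHom ≤ M :=
    (hA'Ω.trans le_sup_right).trans (hT.trans (Cfsg.Agent.Lib.Helper67.BG.sigmaCore_le M))
  have h17 := (h1417 N₁ hN₁ p₀ hp₀ _ ⟨hA'N, hA'ea, hA'2⟩).2.2.2.2.1 M hM (Ne.symm hne) hA'M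
  have hmem : y ∈ sigmaCore N₁ ⊓ M := ⟨hyN, hyM⟩
  rw [h17, Subgroup.mem_bot] at hmem
  exact hy1 hmem

/-- For `q ∈ σ(N)` and `y ∈ M` of order `q`: a conjugate `N₁` of `N` with `y ∈ (N₁)_σ`. -/
theorem exists_conj_sigmaCore [Finite G] (hG : IsMinSimpleOddOrder G)
    (h1425 : type_of% (@Cfsg.CfsgFrozen.S1425 G _ _ hG))
    {N : Subgroup G} (hN : IsCoatom N) {q : ℕ} (hq : q ∈ sigma N) {y : G}
    (hyo : orderOf y = q) :
    ∃ g : G, y ∈ sigmaCore (N.map (MulAut.conj g).toMonoidHom) := by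
  have hqp : q.Prime := hq.1
  have hy1 : y ≠ 1 := ne_one_of_orderOf_prime13 hqp hyo
  obtain ⟨g, hg⟩ := h1425 N hN (Subgroup.zpowers y) (by
      intro h
      have hmem : y ∈ Subgroup.zpowers y := Subgroup.mem_zpowers y
      rw [h, Subgroup.mem_bot] at hmem
      exact hy1 hmem) (by
      intro p hp hd
      rw [Cfsg.Agent.Lib.Helper27.BG.card_zpowers_of_orderOf hyo] at hd
      rw [(Nat.prime_dvd_prime_iff_eq hp hqp).mp hd]; exact hq)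
  refine ⟨g⁻¹, ?_⟩
  rw [Cfsg.Agent.Lib.Helper85.BG.sigmaCore_map_conj, mem_map_conj_iff, inv_inv]
  exact hg (conj_mem_map_conj g (Subgroup.mem_zpowers y))

/-- (*) For `q ∈ σ(N)` and `y ∈ M` of order `q`: `C_{M_σ}(y) = 1`. -/
theorem Sit14.cent_trivial [Finite G] (hG : IsMinSimpleOddOrder G)
    (h1350 : type_of% (@Cfsg.CfsgFrozen.S1350 G _ _ hG))
    (h1403 : type_of% (@Cfsg.CfsgFrozen.S1403 G _ _ hG))
    (h1414 : type_of% (@Cfsg.CfsgFrozen.S1414 G _ _ hG))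
    (h1417 : type_of% (@Cfsg.CfsgFrozen.S1417 G _ _ hG))
    (h1423 : type_of% (@Cfsg.CfsgFrozen.S1423 G _ _ hG))
    (h1425 : type_of% (@Cfsg.CfsgFrozen.S1425 G _ _ hG))
    (h1430 : type_of% (@Cfsg.CfsgFrozen.S1430 G _ _ hG))
    (h1431 : type_of% (@Cfsg.CfsgFrozen.S1431 G _ _ hG))
    (h1432 : type_of% (@Cfsg.CfsgFrozen.S1432 G _ _ hG))
    {M N : Subgroup G} {x : G} {p₀ : ℕ} (S : Sit14 M N x p₀) {q : ℕ} (hq : q ∈ sigma N)
    {y : G} (hyM : y ∈ M) (hyo : orderOf y = q)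
    {w : G} (hw : w ∈ sigmaCore M) (hwy : w * y = y * w) : w = 1 := by
  have hqM : q ∣ Nat.card M := by
    rw [← hyo]; exact Subgroup.orderOf_dvd_natCard M hyM
  have hqβ : q ∈ beta N := S.mem_beta hG h1350 h1414 h1417 h1423 h1432 hq hqM
  obtain ⟨g, hg⟩ := exists_conj_sigmaCore hG h1425 S.hN hq hyo
  refine cent_trivial_aux hG h1403 h1417 h1423 h1430 h1431 h1432 S.hM
    (Cfsg.Agent.Lib.Helper85.BG.isCoatom_map_conj S.hN g) ?_ ?_ S.p_mem_sigma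
    (p₀ := p₀) ?_ (q := q) ?_ ?_ hyM hg hyo hw hwy
  · intro h
    apply S.hnc g⁻¹
    rw [← h, Cfsg.Agent.Lib.Helper85.BG.map_conj_inv_map_conj]
  · intro r hrM hrN
    rw [Cfsg.Agent.Lib.Helper27.BG.sigma_map_conj] at hrN
    exact S.hdisj r hrM hrN
  · rw [tau2_map_conj]; exact S.hτ
  · rw [beta_map_conj]; exact hqβ
  · rw [Cfsg.Agent.Lib.Helper27.BG.sigma_map_conj]; exact hq

end Cfsg.Agent.Lib.Helper13.BG
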