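import Mathlib
import Cfsg.Agent.Lib.Helper13.BG.S1436B
import Cfsg.Agent.Lib.Helper54.Stability

/-!
# B&G 14.15 / 14.16 (statement S1436), part C: `κ(M) = ∅` and `τ₂(M) = ∅`
-/

namespace Cfsg.Agent.Lib.Helper13.BG

open Cfsg Cfsg.Agent.Lib.Helper46 Cfsg.Agent.Lib.Helper35.BG

variable {G : Type*} [Group G]

/-- A power of a nontrivial `q`-element has order `q`. -/
theorem exists_pow_orderOf_eq_prime13 [Finite G] {q : ℕ} (hq : q.Prime) {z : G} {k : ℕ}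
    (hz : z ^ q ^ k = 1) (hz1 : z ≠ 1) : ∃ n : ℕ, orderOf (z ^ n) = q := by
  have hd : orderOf z ∣ q ^ k := orderOf_dvd_of_pow_eq_one hz
  obtain ⟨j, -, hj⟩ := (Nat.dvd_prime_pow hq).mp hd
  have hj0 : j ≠ 0 := by
    rintro rfl
    rw [pow_zero] at hj
    exact hz1 (orderOf_eq_one_iff.mp hj)
  have hqd : q ∣ orderOf z := by rw [hj]; exact dvd_pow_self q hj0
  exact ⟨orderOf z / q, orderOf_pow_orderOf_div (orderOf_pos z).ne' hqd⟩

/-- In a nilpotent `M_σ`, the Sylow `p`-subgroup of `M` for `p ∈ σ(M)` is normal in `M`,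
lies in `M_σ` and contains every `p`-subgroup of `M`. -/
theorem exists_normal_sylow_sigma [Finite G] (hG : IsMinSimpleOddOrder G)
    (h1404 : type_of% (@Cfsg.CfsgFrozen.S1404 G _ _ hG))
    (h1405 : type_of% (@Cfsg.CfsgFrozen.S1405 G _ _ hG))
    {M : Subgroup G} (hM : IsCoatom M) (hnil : Group.IsNilpotent (sigmaCore M))
    {p : ℕ} [Fact p.Prime] (hp : p ∈ sigma M) :
    ∃ P : Subgroup G, IsSylowIn p P M ∧ P ≤ sigmaCore M ∧
      M ≤ Subgroup.normalizer (P : Set G) ∧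
      ∀ X : Subgroup G, IsPGroup p X → X ≤ M → X ≤ P := by
  have P : Sylow p ↥M := default
  have hle := Cfsg.Agent.Lib.Helper66.BG.sylow_le_piCore_sigma hG h1404 h1405 M hM p hp P
  have hnil' : Group.IsNilpotent ↥(piCore (sigma M) ↥M) := by
    have e : ↥(piCore (sigma M) ↥M) ≃* ↥(sigmaCore M) :=
      (piCore (sigma M) ↥M).equivMapOfInjective M.subtype M.subtype_injective
    exact (Group.isNilpotent_congr e).mpr hnil
  haveI hPn : (P : Subgroup ↥M).Normal :=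
    Cfsg.Agent.Lib.Helper66.BG.sylow_normal_of_le_normal_nilpotent P _ hnil' hle
  have hR : IsSylowIn p ((P : Subgroup ↥M).map M.subtype) M := isSylowIn_of_sylow P
  have hMN : M ≤ Subgroup.normalizer (((P : Subgroup ↥M).map M.subtype : Subgroup G) : Set G) :=
    le_normalizer_map_subtype _
  refine ⟨_, hR, Subgroup.map_mono hle, hMN, ?_⟩
  intro X hX hXM
  obtain ⟨R', hR', hXR'⟩ := exists_isSylowIn_ge hX hXM
  have h1 : (P : Subgroup ↥M).map M.subtype ≤ R' :=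
    sylIn_normal_le hR' (sylIn_isPGroup hR) hR.1 hMN
  have h2 : R' = (P : Subgroup ↥M).map M.subtype :=
    sylIn_eq_of_le hR (sylIn_isPGroup hR') hR'.1 h1
  rw [← h2]; exact hXR'

theorem comm_inf_centralizer13 (P : Subgroup G) :
    ∀ a ∈ P ⊓ Subgroup.centralizer (P : Set G), ∀ b ∈ P ⊓ Subgroup.centralizer (P : Set G),
      a * b = b * a := by
  intro a ha b hb
  exact Subgroup.mem_centralizer_iff.mp hb.2 a ha.1

/-- `Ω₁(Z(P))`. -/
def omegaZ (p : ℕ) (P : Subgroup G) : Subgroup G :=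
  omegaSub p (P ⊓ Subgroup.centralizer (P : Set G)) (comm_inf_centralizer13 P)

theorem omegaZ_le {p : ℕ} {P : Subgroup G} : omegaZ p P ≤ P :=
  omegaSub_le.trans inf_le_left

theorem omegaZ_le_centralizer {p : ℕ} {P : Subgroup G} :
    omegaZ p P ≤ Subgroup.centralizer (P : Set G) :=
  omegaSub_le.trans inf_le_right

theorem omegaZ_ea {p : ℕ} {P : Subgroup G} : IsElementaryAbelian p (omegaZ p P) :=
  omegaSub_ea

theorem normalizer_le_normalizer_omegaZ {p : ℕ} {P : Subgroup G} :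
    Subgroup.normalizer (P : Set G) ≤ Subgroup.normalizer ((omegaZ p P : Subgroup G) : Set G) := by
  intro g hg
  exact mem_normalizer_omegaSub (mem_normalizer_inf13 hg
    (Cfsg.Agent.Lib.Helper68.BG.normalizer_le_normalizer_centralizer P hg))

theorem inf_centralizer_ne_bot13 [Finite G] {p : ℕ} [Fact p.Prime] {P : Subgroup G}
    (hP : IsPGroup p P) (hP1 : P ≠ ⊥) : P ⊓ Subgroup.centralizer (P : Set G) ≠ ⊥ := by
  haveI : Nontrivial P := (Subgroup.nontrivial_iff_ne_bot P).mpr hP1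
  haveI := hP.center_nontrivial
  obtain ⟨z, hz⟩ := exists_ne (1 : Subgroup.center P)
  intro hbot
  apply hz
  have hmem : ((z : P) : G) ∈ P ⊓ Subgroup.centralizer (P : Set G) := by
    refine Subgroup.mem_inf.mpr ⟨(z : P).2, ?_⟩
    rw [Subgroup.mem_centralizer_iff]
    intro h hh
    have := Subgroup.mem_center_iff.mp z.2 ⟨h, hh⟩
    exact congrArg Subtype.val this
  rw [hbot, Subgroup.mem_bot] at hmem
  exact Subtype.ext (Subtype.ext hmem)

theorem omegaZ_ne_bot [Finite G] {p : ℕ} [Fact p.Prime] {P : Subgroup G}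
    (hP : IsPGroup p P) (hP1 : P ≠ ⊥) : omegaZ p P ≠ ⊥ := by
  have hZ1 := inf_centralizer_ne_bot13 hP hP1
  have hZp : IsPGroup p ↥(P ⊓ Subgroup.centralizer (P : Set G)) := hP.to_le inf_le_left
  have hd := Cfsg.Agent.Lib.Helper67.BG.dvd_card_of_isPGroup_ne_bot hZp hZ1
  obtain ⟨z, hzZ, hzo⟩ := exists_mem_orderOf_eq13 (Fact.out : p.Prime) hd
  intro hbot
  have hmem : z ∈ omegaZ p P := ⟨hzZ, by rw [← hzo]; exact pow_orderOf_eq_one z⟩
  rw [hbot, Subgroup.mem_bot] at hmem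
  exact ne_one_of_orderOf_prime13 (Fact.out : p.Prime) hzo hmem

/-- `[A, y] = {a⁻¹ a^y}` for an abelian subgroup `A` normalized by `y`. -/
def commSub (A : Subgroup G) (y : G) (hA : ∀ a ∈ A, ∀ b ∈ A, a * b = b * a)
    (hy : y ∈ Subgroup.normalizer (A : Set G)) : Subgroup G where
  carrier := {c | ∃ a ∈ A, c = a⁻¹ * (y * a * y⁻¹)}
  mul_mem' := by
    rintro _ _ ⟨a, ha, rfl⟩ ⟨b, hb, rfl⟩
    refine ⟨a * b, A.mul_mem ha hb, ?_⟩
    have h1 : y * a * y⁻¹ ∈ A := (Subgroup.mem_normalizer_iff.mp hy a).mp ha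
    have h2 : (y * a * y⁻¹) * b⁻¹ = b⁻¹ * (y * a * y⁻¹) := hA _ h1 _ (A.inv_mem hb)
    have h3 : a⁻¹ * b⁻¹ = b⁻¹ * a⁻¹ := hA _ (A.inv_mem ha) _ (A.inv_mem hb)
    calc a⁻¹ * (y * a * y⁻¹) * (b⁻¹ * (y * b * y⁻¹))
        = a⁻¹ * ((y * a * y⁻¹) * b⁻¹) * (y * b * y⁻¹) := by group
      _ = a⁻¹ * (b⁻¹ * (y * a * y⁻¹)) * (y * b * y⁻¹) := by rw [h2]
      _ = (a⁻¹ * b⁻¹) * (y * (a * b) * y⁻¹) := by group
      _ = (a * b)⁻¹ * (y * (a * b) * y⁻¹) := by rw [h3, mul_inv_rev]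
  one_mem' := ⟨1, A.one_mem, by group⟩
  inv_mem' := by
    rintro _ ⟨a, ha, rfl⟩
    refine ⟨a⁻¹, A.inv_mem ha, ?_⟩
    have h1 : y * a⁻¹ * y⁻¹ ∈ A := (Subgroup.mem_normalizer_iff.mp hy a⁻¹).mp (A.inv_mem ha)
    have h2 : (y * a⁻¹ * y⁻¹) * a = a * (y * a⁻¹ * y⁻¹) := hA _ h1 _ ha
    calc (a⁻¹ * (y * a * y⁻¹))⁻¹ = (y * a⁻¹ * y⁻¹) * a := by group
      _ = a * (y * a⁻¹ * y⁻¹) := h2
      _ = a⁻¹⁻¹ * (y * a⁻¹ * y⁻¹) := by group

section commSub

variable {A : Subgroup G} {y : G} {hA : ∀ a ∈ A, ∀ b ∈ A, a * b = b * a}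
  {hy : y ∈ Subgroup.normalizer (A : Set G)}

theorem commSub_le : commSub A y hA hy ≤ A := by
  rintro _ ⟨a, ha, rfl⟩
  exact A.mul_mem (A.inv_mem ha) ((Subgroup.mem_normalizer_iff.mp hy a).mp ha)

theorem mem_normalizer_commSub :
    y ∈ Subgroup.normalizer ((commSub A y hA hy : Subgroup G) : Set G) := by
  rw [Subgroup.mem_normalizer_iff]
  intro n
  constructor
  · rintro ⟨a, ha, rfl⟩
    exact ⟨y * a * y⁻¹, (Subgroup.mem_normalizer_iff.mp hy a).mp ha, by group⟩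
  · rintro ⟨a, ha, h⟩
    refine ⟨y⁻¹ * a * y, ?_, ?_⟩
    · have := (Subgroup.mem_normalizer_iff.mp (Subgroup.inv_mem _ hy) a).mp ha
      simpa using this
    · have h1 : n = y⁻¹ * (y * n * y⁻¹) * y := by group
      rw [h1, h]; group

theorem commSub_inf_centralizer {r : ℕ} (hAr : ∀ a ∈ A, a ^ r = 1)
    (hcop : (orderOf y).Coprime r) :
    commSub A y hA hy ⊓ Subgroup.centralizer ((Subgroup.zpowers y : Subgroup G) : Set G) = ⊥ := by
  rw [eq_bot_iff]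
  rintro c ⟨⟨a, ha, rfl⟩, hc⟩
  rw [Subgroup.mem_bot]
  have hcy : y * (a⁻¹ * (y * a * y⁻¹)) = (a⁻¹ * (y * a * y⁻¹)) * y :=
    Subgroup.mem_centralizer_iff.mp hc y (Subgroup.mem_zpowers y)
  exact Cfsg.Agent.Lib.Helper54.eq_one_of_conj_eq_mul (g := y) (x := a) (by group) hcy
    (hAr _ (commSub_le (hA := hA) (hy := hy) ⟨a, ha, rfl⟩)) hcop

theorem commSub_ne_bot
    (h : ¬ A ≤ Subgroup.centralizer ((Subgroup.zpowers y : Subgroup G) : Set G)) :
    commSub A y hA hy ≠ ⊥ := by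
  intro hbot
  apply h
  intro a ha
  have hmem : a⁻¹ * (y * a * y⁻¹) ∈ commSub A y hA hy := ⟨a, ha, rfl⟩
  rw [hbot, Subgroup.mem_bot] at hmem
  apply Cfsg.Agent.Lib.Helper27.BG.mem_centralizer_zpowers
  have h1 : y * a * y⁻¹ = a := by
    have := congrArg (fun z => a * z) hmem
    simpa using this
  calc a * y = (y * a * y⁻¹) * y := by rw [h1]
    _ = y * a := by group

end commSub

end Cfsg.Agent.Lib.Helper13.BG
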