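import Mathlib
import Cfsg.Agent.Lib.Helper13.BG.S1436C

/-!
# B&G 14.15 / 14.16 (statement S1436), part D: `κ(M) = ∅`
-/

namespace Cfsg.Agent.Lib.Helper13.BG

open Cfsg Cfsg.Agent.Lib.Helper46 Cfsg.Agent.Lib.Helper35.BG

variable {G : Type*} [Group G]

/-- (A) If a prime of `σ(N)` divides `|M|` then `κ(M) = ∅`. -/
theorem Sit14.kappa_empty [Finite G] (hG : IsMinSimpleOddOrder G)
    (h1350 : type_of% (@Cfsg.CfsgFrozen.S1350 G _ _ hG))
    (h1403 : type_of% (@Cfsg.CfsgFrozen.S1403 G _ _ hG))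
    (h1404 : type_of% (@Cfsg.CfsgFrozen.S1404 G _ _ hG))
    (h1405 : type_of% (@Cfsg.CfsgFrozen.S1405 G _ _ hG))
    (h1414 : type_of% (@Cfsg.CfsgFrozen.S1414 G _ _ hG))
    (h1417 : type_of% (@Cfsg.CfsgFrozen.S1417 G _ _ hG))
    (h1423 : type_of% (@Cfsg.CfsgFrozen.S1423 G _ _ hG))
    (h1425 : type_of% (@Cfsg.CfsgFrozen.S1425 G _ _ hG))
    (h1429 : type_of% (@Cfsg.CfsgFrozen.S1429 G _ _ hG))
    (h1430 : type_of% (@Cfsg.CfsgFrozen.S1430 G _ _ hG))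
    (h1431 : type_of% (@Cfsg.CfsgFrozen.S1431 G _ _ hG))
    (h1432 : type_of% (@Cfsg.CfsgFrozen.S1432 G _ _ hG))
    {M N : Subgroup G} {x : G} {p₀ : ℕ} (S : Sit14 M N x p₀) {q : ℕ} (hq : q ∈ sigma N)
    (hqM : q ∣ Nat.card M) : kappa M = ∅ := by
  by_contra hne
  obtain ⟨p, hpκ⟩ := Set.nonempty_iff_ne_empty.mpr hne
  have hqp : q.Prime := hq.1
  haveI : Fact q.Prime := ⟨hqp⟩
  haveI : Fact p₀.Prime := ⟨S.hp⟩
  have hpp : p.Prime := hpκ.1
  haveI : Fact p.Prime := ⟨hpp⟩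
  have hstar : ∀ y ∈ M, orderOf y = q → ∀ w ∈ sigmaCore M, w * y = y * w → w = 1 :=
    fun y hyM hyo w hw hwy =>
      S.cent_trivial hG h1350 h1403 h1414 h1417 h1423 h1425 h1430 h1431 h1432 hq hyM hyo hw hwy
  have hqσM : q ∉ sigma M := fun h => S.hdisj q h hq
  have hp₀σ : p₀ ∈ sigma M := S.p_mem_sigma
  -- `q ∉ κ(M)`
  have hqκ : q ∉ kappa M := by
    intro hκ
    obtain ⟨-, -, -, hall⟩ := hκ
    obtain ⟨-, x', hx'P, hx'1, y', hy'σ, hy'1, hcomm⟩ := hall default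
    obtain ⟨j, hj⟩ := (default : Sylow q ↥M).isPGroup' ⟨x', hx'P⟩
    have hj' : (x' : G) ^ q ^ j = 1 := by
      have := congrArg (fun z : ↥((default : Sylow q ↥M) : Subgroup ↥M) => ((z : ↥M) : G)) hj
      simpa using this
    have hx'1' : (x' : G) ≠ 1 := fun h => hx'1 (Subtype.ext h)
    obtain ⟨n, hn⟩ := exists_pow_orderOf_eq_prime13 hqp hj' hx'1'
    have hc : y' * (x' : G) ^ n = (x' : G) ^ n * y' :=
      ((show Commute (x' : G) y' from hcomm).pow_left n).eq.symm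
    exact hy'1 (hstar _ (M.pow_mem x'.2 n) hn y' hy'σ hc)
  -- `k ∈ K` of order `p`
  obtain ⟨k, hkM, hko⟩ := exists_mem_orderOf_eq13 hpp hpκ.2.1
  have hk1 : k ≠ 1 := ne_one_of_orderOf_prime13 hpp hko
  have hsolvM : Group.IsSolvable M := isSolvable_of_ne_top hG S.hM.1
  obtain ⟨K, hK, hkK⟩ := Cfsg.Agent.Lib.Helper67.BG.exists_piHallOf_ge (kappa M) M hsolvM
    (Subgroup.zpowers k) (Subgroup.zpowers_le.mpr hkM) (by
      intro p' hp' hd
      rw [Cfsg.Agent.Lib.Helper27.BG.card_zpowers_of_orderOf hko] at hd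
      rw [(Nat.prime_dvd_prime_iff_eq hp' hpp).mp hd]; exact hpκ)
  have hkK' : k ∈ K := hkK (Subgroup.mem_zpowers k)
  have hK1 : K ≠ ⊥ := by
    intro h
    rw [h, Subgroup.mem_bot] at hkK'
    exact hk1 hkK'
  obtain ⟨-, ⟨U, hUc, hUH, hKU, hUk⟩, -⟩ := h1430 M S.hM K hK hK1
  have hUcomm : ∀ a ∈ U, ∀ b ∈ U, a * b = b * a := isMulCommutative_subgroup_iff.mp hUc
  have hqU : q ∣ Nat.card U := by
    have h1 := card_mul_relIndex' hUH.1
    have h2 : q ∣ Nat.card U * U.relIndex M := h1 ▸ hqM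
    exact (hqp.dvd_mul.mp h2).resolve_right (hUH.2.2 q hqp ⟨hqp, hqκ, hqσM⟩)
  obtain ⟨u, huU, huo⟩ := exists_mem_orderOf_eq13 hqp hqU
  have huY : u ∈ omegaSub q U hUcomm := ⟨huU, by rw [← huo]; exact pow_orderOf_eq_one u⟩
  -- `M_σ` is nilpotent
  have hnil : Group.IsNilpotent (sigmaCore M) :=
    (h1429 M S.hM (fun h => hqκ (h q hqp hqM hqσM)) q hqM (by
      intro h
      rcases h with h | h
      · exact hqσM h
      · exact hqκ h) default).2.2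
  obtain ⟨P, hP, hPσ, hMP, hPall⟩ := exists_normal_sylow_sigma hG h1404 h1405 S.hM hnil hp₀σ
  have hxP : x ∈ P := hPall (Subgroup.zpowers x)
    (isPGroup_zpowers13 (pow_prime_one_of_orderOf13 S.hxo))
    (Subgroup.zpowers_le.mpr (Cfsg.Agent.Lib.Helper67.BG.sigmaCore_le M S.hx))
    (Subgroup.mem_zpowers x)
  have hP1 : P ≠ ⊥ := by
    intro h
    rw [h, Subgroup.mem_bot] at hxP
    exact S.x_ne_one hxP
  have hPp : IsPGroup p₀ P := sylIn_isPGroup hP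
  have hΩ1 : omegaZ p₀ P ≠ ⊥ := omegaZ_ne_bot hPp hP1
  have hΩea : IsElementaryAbelian p₀ (omegaZ p₀ P) := omegaZ_ea
  have hΩp : IsPGroup p₀ (omegaZ p₀ P) := isPGroup_of_ea13 hΩea
  have hMΩ : M ≤ Subgroup.normalizer ((omegaZ p₀ P : Subgroup G) : Set G) :=
    hMP.trans normalizer_le_normalizer_omegaZ
  have hΩN : omegaZ p₀ P ≤ N := by
    intro z hz
    apply S.hxN
    apply mem_cent_singleton13
    exact Subgroup.mem_centralizer_iff.mp (omegaZ_le_centralizer hz) x hxP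
  have hΩcard : Nat.card (omegaZ p₀ P) ≤ p₀ ^ 2 :=
    (Cfsg.Agent.Lib.Helper24.pRankLE_subgroup_iff p₀ 2 N).mp S.hτ.2.2.1 _ hΩN
      (Cfsg.Agent.Lib.Helper20.BG.ea_comm hΩea) hΩea.2
  have hYM : omegaSub q U hUcomm ≤ M := omegaSub_le.trans hUH.1
  have hCY : omegaZ p₀ P ⊓ Subgroup.centralizer ((omegaSub q U hUcomm : Subgroup G) : Set G)
      = ⊥ := by
    rw [eq_bot_iff]
    intro z hz
    rw [Subgroup.mem_bot]
    have hzu : u * z = z * u := Subgroup.mem_centralizer_iff.mp hz.2 u huY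
    exact hstar u (hUH.1 huU) huo z (hPσ (omegaZ_le hz.1)) hzu.symm
  have hYq : IsPGroup q (omegaSub q U hUcomm) := isPGroup_of_ea13 omegaSub_ea
  have hcopY : (Nat.card (omegaSub q U hUcomm)).Coprime p₀ := by
    obtain ⟨n, hn⟩ := IsPGroup.iff_card.mp hYq
    rw [hn]
    exact Nat.Coprime.pow_left n
      ((Nat.coprime_primes hqp S.hp).mpr (fun h => hqσM (h ▸ hp₀σ)))
  have hpp₀ : p ≠ p₀ := fun h => hpκ.2.2.1 (h ▸ hp₀σ)
  have hkY : Subgroup.zpowers k ≤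
      Subgroup.normalizer ((omegaSub q U hUcomm : Subgroup G) : Set G) :=
    Subgroup.zpowers_le.mpr (mem_normalizer_omegaSub (hKU hkK'))
  have hCYk : omegaSub q U hUcomm ⊓
      Subgroup.centralizer ((Subgroup.zpowers k : Subgroup G) : Set G) = ⊥ := by
    rw [eq_bot_iff, ← hUk k hkK' hk1]
    intro z hz
    exact ⟨omegaSub_le hz.1,
      mem_cent_singleton13 (Subgroup.mem_centralizer_iff.mp hz.2 k (Subgroup.mem_zpowers k))⟩
  have hfrob := Cfsg.Agent.Lib.Helper68.BG.frob_card (p := p₀) (r := p) (omegaZ p₀ P)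
    (omegaSub q U hUcomm) (Subgroup.zpowers k) hΩp (hYM.trans hMΩ)
    ((Subgroup.zpowers_le.mpr hkM).trans hMΩ) hcopY
    (Cfsg.Agent.Lib.Helper27.BG.card_zpowers_of_orderOf hko) hpp hpp₀ hkY hCYk
  have h1 : omegaZ p₀ P ⊓ (Subgroup.centralizer ((omegaSub q U hUcomm : Subgroup G) : Set G) ⊓
      Subgroup.centralizer ((Subgroup.zpowers k : Subgroup G) : Set G)) = ⊥ := by
    rw [eq_bot_iff, ← hCY]; exact inf_le_inf_left _ inf_le_left
  rw [h1, hCY] at hfrob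
  simp only [Subgroup.card_bot, one_pow, one_mul, mul_one] at hfrob
  obtain ⟨a, ha⟩ := IsPGroup.iff_card.mp hΩp
  obtain ⟨b, hb⟩ := IsPGroup.iff_card.mp (hΩp.to_le inf_le_left :
    IsPGroup p₀ ↥(omegaZ p₀ P ⊓
      Subgroup.centralizer ((Subgroup.zpowers k : Subgroup G) : Set G)))
  rw [ha, hb, ← pow_mul] at hfrob
  have hab : a = b * p := Nat.pow_right_injective S.hp.two_le hfrob
  have ha0 : a ≠ 0 := by
    rintro rfl
    rw [pow_zero] at ha
    exact hΩ1 (Subgroup.card_eq_one.mp ha)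
  have ha2 : a ≤ 2 := by
    rw [ha] at hΩcard
    exact (Nat.pow_le_pow_iff_right S.hp.one_lt).mp hΩcard
  have hp3 : 3 ≤ p := by
    have h2 : p ≠ 2 := prime_ne_two13 hG hpκ.2.1
    have := hpp.two_le
    omega
  rcases Nat.eq_zero_or_pos b with hb0 | hb0
  · rw [hb0, zero_mul] at hab; exact ha0 hab
  · have : 3 ≤ b * p := by nlinarith
    omega

end Cfsg.Agent.Lib.Helper13.BG
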