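import Mathlib
import Cfsg.Agent.Lib.Helper13.BG.S1436D

/-!
# B&G 14.15 / 14.16 (statement S1436), part E: `τ₂(M) = ∅`
-/

namespace Cfsg.Agent.Lib.Helper13.BG

open Cfsg Cfsg.Agent.Lib.Helper46 Cfsg.Agent.Lib.Helper35.BG

variable {G : Type*} [Group G]

/-- (B) If a prime of `σ(N)` divides `|M|` then `τ₂(M) = ∅`. -/
theorem Sit14.tau2_empty [Finite G] (hG : IsMinSimpleOddOrder G)
    (h1350 : type_of% (@Cfsg.CfsgFrozen.S1350 G _ _ hG))
    (h1403 : type_of% (@Cfsg.CfsgFrozen.S1403 G _ _ hG))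
    (h1404 : type_of% (@Cfsg.CfsgFrozen.S1404 G _ _ hG))
    (h1405 : type_of% (@Cfsg.CfsgFrozen.S1405 G _ _ hG))
    (h1414 : type_of% (@Cfsg.CfsgFrozen.S1414 G _ _ hG))
    (h1417 : type_of% (@Cfsg.CfsgFrozen.S1417 G _ _ hG))
    (h1418 : type_of% (@Cfsg.CfsgFrozen.S1418 G _ _ hG))
    (h1423 : type_of% (@Cfsg.CfsgFrozen.S1423 G _ _ hG))
    (h1425 : type_of% (@Cfsg.CfsgFrozen.S1425 G _ _ hG))
    (h1430 : type_of% (@Cfsg.CfsgFrozen.S1430 G _ _ hG))
    (h1431 : type_of% (@Cfsg.CfsgFrozen.S1431 G _ _ hG))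
    (h1432 : type_of% (@Cfsg.CfsgFrozen.S1432 G _ _ hG))
    {M N : Subgroup G} {x : G} {p₀ : ℕ} (S : Sit14 M N x p₀) {q : ℕ} (hq : q ∈ sigma N)
    (hqM : q ∣ Nat.card M) : tau2 M = ∅ := by
  by_contra hne
  obtain ⟨r, hr⟩ := Set.nonempty_iff_ne_empty.mpr hne
  have hqp : q.Prime := hq.1
  have hrp : r.Prime := hr.1
  haveI : Fact q.Prime := ⟨hqp⟩
  haveI : Fact r.Prime := ⟨hrp⟩
  haveI : Fact p₀.Prime := ⟨S.hp⟩
  have hstar : ∀ y ∈ M, orderOf y = q → ∀ w ∈ sigmaCore M, w * y = y * w → w = 1 :=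
    fun y hyM hyo w hw hwy =>
      S.cent_trivial hG h1350 h1403 h1414 h1417 h1423 h1425 h1430 h1431 h1432 hq hyM hyo hw hwy
  have hqσM : q ∉ sigma M := fun h => S.hdisj q h hq
  have hp₀σ : p₀ ∈ sigma M := S.p_mem_sigma
  have hrσM : r ∉ sigma M := hr.2.1
  obtain ⟨y, hyM, hyo⟩ := exists_mem_orderOf_eq13 hqp hqM
  have hy1 : y ≠ 1 := ne_one_of_orderOf_prime13 hqp hyo
  have hHall := (h1350 M S.hM).1
  obtain ⟨E, hE, hyE⟩ := Cfsg.Agent.Lib.Helper76.BG.exists_compl_ge hG M S.hM hHall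
    (Subgroup.zpowers y) (Subgroup.zpowers_le.mpr hyM) (by
      intro p hp hd
      rw [Cfsg.Agent.Lib.Helper27.BG.card_zpowers_of_orderOf hyo] at hd
      rw [(Nat.prime_dvd_prime_iff_eq hp hqp).mp hd]; exact hqσM)
  obtain ⟨A, hAE, hA, hA2⟩ := Cfsg.Agent.Lib.Helper67.BG.exists_ea_sq_le_compl hE hr
  have hAM : A ≤ M := hAE.trans hE.1
  obtain ⟨hnil, -, -, hCA, -, -⟩ := h1417 M S.hM r hr A ⟨hAM, hA, hA2⟩
  obtain ⟨⟨hEA, -⟩, -, h18⟩ := h1418 M S.hM E hE r hr A ⟨hAE, hA, hA2⟩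
  have hyA : y ∈ Subgroup.normalizer (A : Set G) := hEA (hyE (Subgroup.mem_zpowers y))
  have hAcomm : ∀ a ∈ A, ∀ b ∈ A, a * b = b * a := Cfsg.Agent.Lib.Helper20.BG.ea_comm hA
  obtain ⟨P, hP, hPσ, hMP, hPall⟩ := exists_normal_sylow_sigma hG h1404 h1405 S.hM hnil hp₀σ
  have hxP : x ∈ P := hPall (Subgroup.zpowers x)
    (isPGroup_zpowers13 (pow_prime_one_of_orderOf13 S.hxo))
    (Subgroup.zpowers_le.mpr (Cfsg.Agent.Lib.Helper67.BG.sigmaCore_le M S.hx))
    (Subgroup.mem_zpowers x)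
  have hP1 : P ≠ ⊥ := by
    intro h
    rw [h, Subgroup.mem_bot] at hxP
    exact S.x_ne_one hxP
  have hPp : IsPGroup p₀ P := sylIn_isPGroup hP
  -- `r ∉ σ(N)`
  have hrM : r ∣ Nat.card M := by
    have h1 := Subgroup.card_dvd_of_le hAM
    rw [hA2] at h1
    exact (dvd_pow_self r two_ne_zero).trans h1
  have hrσN : r ∉ sigma N := by
    intro h
    have hβ := S.mem_beta hG h1350 h1414 h1417 h1423 h1432 h hrM
    exact (Cfsg.Agent.Lib.Helper20.BG.s1408_core hG h1403 M S.hM r hrσM hr.2.2.1 hr.2.2.2).1 hβ.2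
  -- the conjugate `N₁` of `N` with `y ∈ (N₁)_σ`
  obtain ⟨g, hg⟩ := exists_conj_sigmaCore hG h1425 S.hN hq hyo
  have hN₁ : IsCoatom (N.map (MulAut.conj g).toMonoidHom) :=
    Cfsg.Agent.Lib.Helper85.BG.isCoatom_map_conj S.hN g
  have hqβ : q ∈ beta N := S.mem_beta hG h1350 h1414 h1417 h1423 h1432 hq hqM
  have hCy : Subgroup.centralizer ((Subgroup.zpowers y : Subgroup G) : Set G) ≤
      N.map (MulAut.conj g).toMonoidHom :=
    (h1423 _ hN₁ q (by rw [Cfsg.Agent.Lib.Helper27.BG.sigma_map_conj]; exact hq)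
      (Subgroup.zpowers y)
      (Subgroup.zpowers_le.mpr (Cfsg.Agent.Lib.Helper67.BG.sigmaCore_le _ hg))
      (Cfsg.Agent.Lib.Helper27.BG.card_zpowers_of_orderOf hyo) default
      (Or.inl (by rw [beta_map_conj]; exact hqβ))).1.1
  -- `y` does not centralize `A`
  have hnotcent : ¬ A ≤ Subgroup.centralizer ((Subgroup.zpowers y : Subgroup G) : Set G) := by
    intro hAc
    have hAN₁ : A ≤ N.map (MulAut.conj g).toMonoidHom := hAc.trans hCy
    have h1 : ¬ PRankLE r 1 (N.map (MulAut.conj g).toMonoidHom) :=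
      not_pRankLE_one_of_le hA hA2 hAN₁
    rw [pRankLE_map_conj_iff] at h1
    have h2 : PRankLE r 2 N := by
      by_contra h2
      exact hrσN (Cfsg.Agent.Lib.Helper46.BG.mem_sigma_of_mem_alpha hG h1405 S.hN ⟨hrp, h2⟩)
    exact hrσM (S.tau2_subset_sigma hG h1405 h1417 ⟨hrp, hrσN, h2, h1⟩)
  have hzyA : Subgroup.zpowers y ≤ Subgroup.normalizer (A : Set G) :=
    Subgroup.zpowers_le.mpr hyA
  have hqr : q ≠ r := fun h => hrσN (h ▸ hq)
  have hqp₀ : q ≠ p₀ := fun h => hqσM (h ▸ hp₀σ)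
  have hrp₀ : r ≠ p₀ := fun h => hrσM (h ▸ hp₀σ)
  have hPCy : P ⊓ Subgroup.centralizer ((Subgroup.zpowers y : Subgroup G) : Set G) = ⊥ := by
    rw [eq_bot_iff]
    intro z hz
    rw [Subgroup.mem_bot]
    have hzy : y * z = z * y := Subgroup.mem_centralizer_iff.mp hz.2 y (Subgroup.mem_zpowers y)
    exact hstar y hyM hyo z (hPσ hz.1) hzy.symm
  have hAcop : (Nat.card A).Coprime p₀ := by
    rw [hA2]; exact Nat.Coprime.pow_left 2 ((Nat.coprime_primes hrp S.hp).mpr hrp₀)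
  -- `C_A(y) ≠ 1`
  have hB1 : A ⊓ Subgroup.centralizer ((Subgroup.zpowers y : Subgroup G) : Set G) ≠ ⊥ := by
    intro hB
    have hfrob := Cfsg.Agent.Lib.Helper68.BG.frob_card (p := p₀) (r := q) P A
      (Subgroup.zpowers y) hPp (hAM.trans hMP) ((Subgroup.zpowers_le.mpr hyM).trans hMP) hAcop
      (Cfsg.Agent.Lib.Helper27.BG.card_zpowers_of_orderOf hyo) hqp hqp₀ hzyA hB
    have h1 : P ⊓ (Subgroup.centralizer (A : Set G) ⊓
        Subgroup.centralizer ((Subgroup.zpowers y : Subgroup G) : Set G)) = ⊥ := by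
      rw [eq_bot_iff, ← hPCy]; exact inf_le_inf_left _ inf_le_right
    have h2 : P ⊓ Subgroup.centralizer (A : Set G) = ⊥ := by
      rw [eq_bot_iff, ← hCA]; exact inf_le_inf_right _ hPσ
    rw [h1, hPCy, h2] at hfrob
    simp only [Subgroup.card_bot, one_pow, one_mul, mul_one] at hfrob
    exact hP1 (Subgroup.card_eq_one.mp hfrob)
  -- `B' = [A, y]`
  have hB'A : commSub A y hAcomm hyA ≤ A := commSub_le
  have hB'1 : commSub A y hAcomm hyA ≠ ⊥ := commSub_ne_bot hnotcent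
  have hB'C : commSub A y hAcomm hyA ⊓
      Subgroup.centralizer ((Subgroup.zpowers y : Subgroup G) : Set G) = ⊥ :=
    commSub_inf_centralizer hA.2 (by rw [hyo]; exact (Nat.coprime_primes hqp hrp).mpr hqr)
  have hB'ne : commSub A y hAcomm hyA ≠ A := by
    intro h
    rw [h] at hB'C
    exact hB1 hB'C
  have hB'card : Nat.card (commSub A y hAcomm hyA) = r := by
    have hd : Nat.card (commSub A y hAcomm hyA) ∣ r ^ 2 := hA2 ▸ Subgroup.card_dvd_of_le hB'A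
    obtain ⟨j, hj2, hj⟩ := (Nat.dvd_prime_pow hrp).mp hd
    interval_cases j
    · rw [pow_zero] at hj
      exact absurd (Subgroup.card_eq_one.mp hj) hB'1
    · rw [hj, pow_one]
    · exfalso
      apply hB'ne
      exact Subgroup.eq_of_le_of_card_ge hB'A (by rw [hj, hA2])
  have hB'q : (Nat.card (commSub A y hAcomm hyA)).Coprime p₀ := by
    rw [hB'card]; exact (Nat.coprime_primes hrp S.hp).mpr hrp₀
  have hB'M : commSub A y hAcomm hyA ≤ M := hB'A.trans hAM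
  -- `B'` centralizes `P`
  have hB'P : commSub A y hAcomm hyA ≤ Subgroup.centralizer (P : Set G) :=
    Cfsg.Agent.Lib.Helper68.BG.frob_F0' (p := p₀) (r := q) P (commSub A y hAcomm hyA)
      (Subgroup.zpowers y) hPp (hB'M.trans hMP) ((Subgroup.zpowers_le.mpr hyM).trans hMP) hB'q
      (Cfsg.Agent.Lib.Helper27.BG.card_zpowers_of_orderOf hyo) hqp hqp₀
      (Subgroup.zpowers_le.mpr mem_normalizer_commSub) hB'C (by rw [hPCy]; exact bot_le)
  have hB'x : ∀ b ∈ commSub A y hAcomm hyA, x * b = b * x := fun b hb =>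
    Subgroup.mem_centralizer_iff.mp (hB'P hb) x hxP
  have hB'N : commSub A y hAcomm hyA ≤ N := fun b hb =>
    S.hxN (mem_cent_singleton13 (hB'x b hb))
  -- `r ∈ κ(N)`
  have hrκ : r ∈ kappa N := by
    obtain ⟨⟨b, hb⟩, hb1⟩ := (Subgroup.ne_bot_iff_exists_ne_one).mp hB1
    have hbo : orderOf (b : G) = r :=
      orderOf_eq_prime (hA.2 _ hb.1) (fun h => hb1 (Subtype.ext h))
    have hbN₁ : (b : G) ∈ N.map (MulAut.conj g).toMonoidHom := hCy hb.2
    have hby : y * (b : G) = (b : G) * y :=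
      Subgroup.mem_centralizer_iff.mp hb.2 y (Subgroup.mem_zpowers y)
    have hrσN₁ : r ∉ sigma (N.map (MulAut.conj g).toMonoidHom) := by
      rw [Cfsg.Agent.Lib.Helper27.BG.sigma_map_conj]; exact hrσN
    rcases h1432 _ hN₁ y hg hy1 (b : G) ⟨hbN₁, mem_cent_singleton13 hby⟩
      (fun h => hb1 (Subtype.ext h)) (by
        intro p hp hd
        rw [prime_dvd_orderOf_eq13 hrp hp hbo hd]; exact hrσN₁) with ⟨hκ, -⟩ | ⟨hτ, -, -⟩
    · have := hκ r hrp (by rw [hbo])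
      rwa [Cfsg.Agent.Lib.Helper85.BG.kappa_map_conj hG.1] at this
    · exfalso
      have := hτ r hrp (by rw [hbo])
      rw [tau2_map_conj] at this
      exact hrσM (S.tau2_subset_sigma hG h1405 h1417 this)
  -- a Hall `κ(N)`-subgroup over `B'`
  have hsolvN : Group.IsSolvable N := isSolvable_of_ne_top hG S.hN.1
  obtain ⟨KN, hKN, hB'KN⟩ := Cfsg.Agent.Lib.Helper67.BG.exists_piHallOf_ge (kappa N) N hsolvN
    (commSub A y hAcomm hyA) hB'N (by
      intro p hp hd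
      rw [hB'card] at hd
      rw [(Nat.prime_dvd_prime_iff_eq hp hrp).mp hd]; exact hrκ)
  have hKN1 : KN ≠ ⊥ := by
    intro h
    rw [h] at hB'KN
    exact hB'1 (le_bot_iff.mp hB'KN)
  have h30 := ((h1430 N S.hN KN hKN hKN1).2.2 (commSub A y hAcomm hyA) hB'KN
    (by rw [hB'card]; exact hrp)).2.2
  -- `N(B') ≤ M`
  have hxCB' : sigmaCore M ⊓
      Subgroup.centralizer ((commSub A y hAcomm hyA : Subgroup G) : Set G) ≠ ⊥ := by
    intro hbot
    have hmem : x ∈ sigmaCore M ⊓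
        Subgroup.centralizer ((commSub A y hAcomm hyA : Subgroup G) : Set G) :=
      ⟨S.hx, Subgroup.mem_centralizer_iff.mpr (fun b hb => (hB'x b hb).symm)⟩
    rw [hbot, Subgroup.mem_bot] at hmem
    exact S.x_ne_one hmem
  obtain ⟨-, huM⟩ := h18 (commSub A y hAcomm hyA) hB'A hB'card hxCB'
  have hB'top : commSub A y hAcomm hyA ≠ ⊤ := by
    intro h
    rw [h] at hB'M
    exact S.hM.1 (top_le_iff.mp hB'M)
  obtain ⟨L, hL, hNL⟩ := exists_coatom_ge (normalizer_ne_top hG hB'1 hB'top)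
  have hLM : L = M := huM L hL ((centralizer_le_normalizer' _).trans hNL)
  rw [hLM] at hNL
  have hB'σ : commSub A y hAcomm hyA ≤ sigmaCore M := h30 M S.hM hNL
  apply hrσM
  apply Cfsg.Agent.Lib.Helper67.BG.sigmaCore_isPi M r hrp
  rw [← hB'card]
  exact Subgroup.card_dvd_of_le hB'σ

end Cfsg.Agent.Lib.Helper13.BG
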