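import Mathlib
import Cfsg.Statements.S1436
import Cfsg.Agent.Lib.Helper13.BG.S1436E

/-!
# B&G 14.15 / 14.16 (statement S1436): the core

`s1436_core` proves the frozen statement S1436 from the frozen statements
S1350, S1378, S1403, S1404, S1405, S1409, S1414, S1417, S1418, S1420, S1423, S1424, S1425,
S1429, S1430, S1431, S1432 (as hypotheses).
-/

namespace Cfsg.Agent.Lib.Helper13.BG

open Cfsg Cfsg.Agent.Lib.Helper46 Cfsg.Agent.Lib.Helper35.BG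

variable {G : Type*} [Group G]

/-- (2) Two maximal subgroups over centralizers of elements of `M_σ` that are conjugate in `G`
are conjugate under `M`. -/
theorem Sit14.conj_in_M [Finite G] (hG : IsMinSimpleOddOrder G)
    (h1350 : type_of% (@Cfsg.CfsgFrozen.S1350 G _ _ hG))
    (h1378 : type_of% (@Cfsg.CfsgFrozen.S1378 G _ _ hG))
    (h1404 : type_of% (@Cfsg.CfsgFrozen.S1404 G _ _ hG))
    (h1409 : type_of% (@Cfsg.CfsgFrozen.S1409 G _ _ hG))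
    (h1417 : type_of% (@Cfsg.CfsgFrozen.S1417 G _ _ hG))
    (h1418 : type_of% (@Cfsg.CfsgFrozen.S1418 G _ _ hG))
    (h1420 : type_of% (@Cfsg.CfsgFrozen.S1420 G _ _ hG))
    (h1424 : type_of% (@Cfsg.CfsgFrozen.S1424 G _ _ hG))
    {M N N' : Subgroup G} {x y₀ : G} {p₀ p' : ℕ} (S : Sit14 M N x p₀) (S' : Sit14 M N' y₀ p')
    {g : G} (hg : N'.map (MulAut.conj g).toMonoidHom = N) :
    ∃ m ∈ M, N'.map (MulAut.conj m).toMonoidHom = N := by
  haveI : Fact p'.Prime := ⟨S'.hp⟩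
  have hp'τ : p' ∈ tau2 N := by rw [← hg, tau2_map_conj]; exact S'.hτ
  have hy₀N' : y₀ ∈ N' := S'.x_mem_N
  have hgy : g * y₀ * g⁻¹ ∈ N := by rw [← hg]; exact conj_mem_map_conj g hy₀N'
  have hpg : IsPGroup p' (Subgroup.zpowers (g * y₀ * g⁻¹)) :=
    isPGroup_zpowers13 (k := 1) (by
      rw [pow_one, ← S'.hxo, ← Cfsg.Agent.Lib.Helper85.BG.orderOf_conj g y₀]
      exact pow_orderOf_eq_one _)
  have hnd : ¬ p' ∣ (M ⊓ N).relIndex N := by
    rw [relIndex_left_of_isComplIn S.hcompl]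
    exact fun h => hp'τ.2.1 (Cfsg.Agent.Lib.Helper67.BG.sigmaCore_isPi N p' S'.hp h)
  obtain ⟨n, hn, hle⟩ := exists_conj_le_of_not_dvd_relIndex hpg (Subgroup.zpowers_le.mpr hgy)
    (inf_le_right : M ⊓ N ≤ N) hnd
  have hmem : n * (g * y₀ * g⁻¹) * n⁻¹ ∈ M :=
    (hle (conj_mem_map_conj n (Subgroup.mem_zpowers _))).1
  have hy₀h : y₀ ∈ M.map (MulAut.conj (n * g)⁻¹).toMonoidHom := by
    rw [mem_map_conj_iff, inv_inv]
    have h1 : n * g * y₀ * (n * g)⁻¹ = n * (g * y₀ * g⁻¹) * n⁻¹ := by group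
    rw [h1]; exact hmem
  obtain ⟨c, hc, hcM⟩ := Cfsg.Agent.Lib.Helper44.BG.exists_centralizer_conj hG h1350 h1378 h1404
    h1409 h1417 h1418 h1420 h1424 M S'.hM y₀ S'.hx S'.x_ne_one (n * g)⁻¹ hy₀h
  have hfix : M.map (MulAut.conj (n * g * c)).toMonoidHom = M := by
    rw [← Cfsg.Agent.Lib.Helper35.BG.map_conj_mul, ← hcM, Cfsg.Agent.Lib.Helper35.BG.map_conj_mul,
      mul_inv_cancel, Cfsg.Agent.Lib.Helper35.BG.map_conj_one]
  have hmM : n * g * c ∈ M :=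
    Cfsg.Agent.Lib.Helper44.BG.mem_of_map_conj_eq_self hG S'.hM
      (Cfsg.Agent.Lib.Helper67.BG.sigmaCore_le M S'.hx) S'.x_ne_one hfix
  refine ⟨n * g * c, hmM, ?_⟩
  have hcN' : c ∈ N' := S'.hxN hc
  rw [← Cfsg.Agent.Lib.Helper35.BG.map_conj_mul,
    Cfsg.Agent.Lib.Helper85.BG.map_conj_eq_self_of_mem hcN',
    ← Cfsg.Agent.Lib.Helper35.BG.map_conj_mul, hg,
    Cfsg.Agent.Lib.Helper85.BG.map_conj_eq_self_of_mem hn]

/-- **B&G 14.15 / 14.16** (frozen statement S1436), from earlier frozen statements. -/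
theorem s1436_core [Finite G] (hG : IsMinSimpleOddOrder G)
    (h1350 : type_of% (@Cfsg.CfsgFrozen.S1350 G _ _ hG))
    (h1378 : type_of% (@Cfsg.CfsgFrozen.S1378 G _ _ hG))
    (h1403 : type_of% (@Cfsg.CfsgFrozen.S1403 G _ _ hG))
    (h1404 : type_of% (@Cfsg.CfsgFrozen.S1404 G _ _ hG))
    (h1405 : type_of% (@Cfsg.CfsgFrozen.S1405 G _ _ hG))
    (h1409 : type_of% (@Cfsg.CfsgFrozen.S1409 G _ _ hG))
    (h1414 : type_of% (@Cfsg.CfsgFrozen.S1414 G _ _ hG))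
    (h1417 : type_of% (@Cfsg.CfsgFrozen.S1417 G _ _ hG))
    (h1418 : type_of% (@Cfsg.CfsgFrozen.S1418 G _ _ hG))
    (h1420 : type_of% (@Cfsg.CfsgFrozen.S1420 G _ _ hG))
    (h1423 : type_of% (@Cfsg.CfsgFrozen.S1423 G _ _ hG))
    (h1424 : type_of% (@Cfsg.CfsgFrozen.S1424 G _ _ hG))
    (h1425 : type_of% (@Cfsg.CfsgFrozen.S1425 G _ _ hG))
    (h1429 : type_of% (@Cfsg.CfsgFrozen.S1429 G _ _ hG))
    (h1430 : type_of% (@Cfsg.CfsgFrozen.S1430 G _ _ hG))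
    (h1431 : type_of% (@Cfsg.CfsgFrozen.S1431 G _ _ hG))
    (h1432 : type_of% (@Cfsg.CfsgFrozen.S1432 G _ _ hG)) :
    type_of% (@Cfsg.CfsgFrozen.S1436 G _ _ hG) := by
  intro M hM x hx hx1 hxM N hN hxN
  obtain ⟨k, p₀, S, -⟩ := exists_sit14 hG h1350 h1378 h1409 h1417 h1418 h1420 h1424 h1432
    hM hx hx1 hxM hN hxN
  refine ⟨?_, ?_⟩
  · rintro ⟨q, hq, hqM⟩
    exact ⟨S.kappa_empty hG h1350 h1403 h1404 h1405 h1414 h1417 h1423 h1425 h1429 h1430 h1431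
        h1432 hq hqM,
      S.tau2_empty hG h1350 h1403 h1404 h1405 h1414 h1417 h1418 h1423 h1425 h1430 h1431
        h1432 hq hqM⟩
  · intro y N' g hy hy1 hyM hN' hyN' hg
    obtain ⟨k', p', S', -⟩ := exists_sit14 hG h1350 h1378 h1409 h1417 h1418 h1420 h1424 h1432
      hM hy hy1 hyM hN' hyN'
    exact S.conj_in_M hG h1350 h1378 h1404 h1409 h1417 h1418 h1420 h1424 S' hg

end Cfsg.Agent.Lib.Helper13.BG
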